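import Cfsg.Agent.Fischer468.Orient

set_option autoImplicit false

/-!
# A coherent choice of the labels: all the maps between lines become scalar multiplications
-/

namespace Cfsg.Agent.Fischer468.Coherent

open Cfsg Cfsg.Agent.SporadicStructure.FischerSpace Cfsg.Agent.Fischer468.Lines
open Cfsg.Agent.Fischer468.FieldMaps Cfsg.Agent.SporadicA.FieldFour
open Cfsg.Agent.Fischer468.Labels Cfsg.Agent.Fischer468.Orient

variable {G : Type*} [Group G] {D : Set G}

section Nondeg

variable (hU : UPolar D) {w e : G} (hw : w ∈ D) (he : e ∈ D) (hwe : ¬ Commute w e)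
include hU hw he hwe

theorem exists_not_comm {x : G} (hx : InP D w e x) : ∃ c, InP D w e c ∧ ¬ Commute c x := by
  by_contra hcon
  push Not at hcon
  have h := hU.hyp w hw e he hwe x hx.mem (fun d hd h1 h2 => hcon d ⟨hd, h1.symm, h2.symm⟩)
  rcases h with h | h | h
  · exact hwe (by rw [← h]; exact hx.ce.symm)
  · exact hwe (by rw [← h]; exact hx.cw)
  · have h1 := not_comm_third hU.fd hw he hwe
    rw [← h] at h1
    exact h1 hx.cw.symm

theorem InP.conj {x y : G} (hx : InP D w e x) (hy : InP D w e y) : InP D w e (x * y * x) :=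
  ⟨hU.fd.conj' hx.mem hy.mem, (hx.cw.mul_right hy.cw).mul_right hx.cw,
    (hx.ce.mul_right hy.ce).mul_right hx.ce⟩

/-- two commuting points have a common non-neighbour -/
theorem exists_common {x y : G} (hx : InP D w e x) (hy : InP D w e y) (hxy : Commute x y) :
    ∃ c, InP D w e c ∧ ¬ Commute c x ∧ ¬ Commute c y := by
  have h := hU.fd
  obtain ⟨c₁, hc₁, h1⟩ := exists_not_comm hU hw he hwe hx
  obtain ⟨c₂, hc₂, h2⟩ := exists_not_comm hU hw he hwe hy
  by_cases h3 : Commute c₁ y
  · by_cases h4 : Commute c₂ x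
    · by_cases h5 : Commute c₁ c₂
      · have hne : c₁ ≠ c₂ := by
          rintro rfl
          exact h1 h4
        have hM := isLine_Ln hc₁.mem hc₂.mem hne h5
        have hM1 : c₁ ∈ Ln D c₁ c₂ := left_mem hc₁.mem
        have hM2 : c₂ ∈ Ln D c₁ c₂ := right_mem hc₂.mem
        obtain ⟨c, -, -, hc, -, -, hcc1, hcc2, -⟩ := exists_enum (hM.card hU) hM1 hM2 hne
        have hcP : InP D w e c := by
          refine ⟨hc.1, ?_, ?_⟩
          · exact hc.2 w hw hc₁.cw hc₂.cw
          · exact hc.2 e he hc₁.ce hc₂.ce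
        refine ⟨c, hcP, ?_, ?_⟩
        · intro hcx
          exact hcc2 (hM.only hU hM2 hM1 hc hx.mem h4.symm (fun hh => h1 hh.symm) hcx.symm)
        · intro hcy
          exact hcc1 (hM.only hU hM1 hM2 hc hy.mem h3.symm (fun hh => h2 hh.symm) hcy.symm)
      · refine ⟨c₁ * c₂ * c₁, InP.conj hU hw he hwe hc₁ hc₂, ?_, ?_⟩
        · rw [h.braid c₁ hc₁.mem c₂ hc₂.mem h5, h.commute_conj_left_iff hc₂.mem,
            (h.commute_iff hc₂.mem x).1 h4]
          exact h1
        · rw [h.commute_conj_left_iff hc₁.mem, (h.commute_iff hc₁.mem y).1 h3]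
          exact h2
    · exact ⟨c₂, hc₂, h4, h2⟩
  · exact ⟨c₁, hc₁, h1, h3⟩

end Nondeg

section Sign

variable {w e : G} {p : G → F4 → G} (hU : UPolar D) (F : Fam D w e p)
include hU F

/-- the type of the map from `z` to `y` -/
def Ty (w : G) (p : G → F4 → G) (z y : G) : Prop := Lin (fun u => phi p y (sg w (p z) u))

theorem ty_symm {x y : G} (hx : InP D w e x) (hy : InP D w e y) (hxy : ¬ Commute x y) :
    Ty w p x y ↔ Ty w p y x := by
  have hyx : ¬ Commute y x := fun h => hxy h.symm
  constructor
  · exact (addInj hU F hx hy hxy).lin_of_inverse (fun u v h => phi_inverse hU F hx hy hxy u v h)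
  · exact (addInj hU F hy hx hyx).lin_of_inverse (fun u v h => phi_inverse hU F hy hx hyx u v h)

theorem ty_tri {x y z : G} (hx : InP D w e x) (hy : InP D w e y) (hz : InP D w e z)
    (hxy : ¬ Commute x y) (hxz : ¬ Commute x z) (hyz : ¬ Commute y z) :
    Ty w p x z ↔ (Ty w p y z ↔ Ty w p x y) := by
  have h1 := addInj hU F hx hz hxz
  have h2 := addInj hU F hy hz hyz
  have h3 := addInj hU F hx hy hxy
  have h4 := h3.comp h2
  have h5 := triangle hU F hx hy hz hxy
  exact (h1.lin_iff h4 h5).trans (h3.lin_comp h2)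

/-- independence of the intermediate point -/
theorem ty_indep {o x c c' : G} (ho : InP D w e o) (hx : InP D w e x) (hc : InP D w e c)
    (hc' : InP D w e c') (hoc : ¬ Commute o c) (hcx : ¬ Commute c x) (hoc' : ¬ Commute o c')
    (hcx' : ¬ Commute c' x) :
    (Ty w p o c ↔ Ty w p c x) ↔ (Ty w p o c' ↔ Ty w p c' x) := by
  -- first the case where `c, c'` do not commute
  have key : ∀ c c' : G, InP D w e c → InP D w e c' → ¬ Commute o c → ¬ Commute c x →
      ¬ Commute o c' → ¬ Commute c' x → ¬ Commute c c' →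
      ((Ty w p o c ↔ Ty w p c x) ↔ (Ty w p o c' ↔ Ty w p c' x)) := by
    intro c c' hc hc' hoc hcx hoc' hcx' hcc
    have t1 := ty_tri hU F ho hc hc' hoc hoc' hcc
    have t2 := ty_tri hU F hc hc' hx hcc hcx hcx'
    have t3 := ty_symm hU F hc hc' hcc
    grind
  by_cases hcc : Commute c c'
  · by_cases hox : Commute o x
    · have h := hU.fd
      set d := x * c * x with hd
      have hxc : ¬ Commute x c := fun hh => hcx hh.symm
      have hdP : InP D w e d := InP.conj hU F.hw F.he F.hwe hx hc
      have hdx : ¬ Commute d x := not_comm_third h hx.mem hc.mem hxc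
      have hdc : ¬ Commute d c := not_comm_third' h hx.mem hc.mem hxc
      have hdo : ¬ Commute d o := by
        rw [hd, h.commute_conj_left_iff hx.mem, (h.commute_iff hx.mem o).1 hox.symm]
        exact fun hh => hoc hh.symm
      have hdc' : ¬ Commute d c' := by
        rw [hd, h.braid x hx.mem c hc.mem hxc, h.commute_conj_left_iff hc.mem,
          (h.commute_iff hc.mem c').1 hcc]
        exact fun hh => hcx' hh.symm
      exact (key c d hc hdP hoc hcx (fun hh => hdo hh.symm) hdx (fun hh => hdc hh.symm)).trans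
        (key d c' hdP hc' (fun hh => hdo hh.symm) hdx hoc' hcx' hdc')
    · have t1 := ty_tri hU F ho hc hx hoc hox hcx
      have t2 := ty_tri hU F ho hc' hx hoc' hox hcx'
      grind
  · exact key c c' hc hc' hoc hcx hoc' hcx' hcc

/-- the sign of a point with respect to a base point -/
def Sgn (D : Set G) (w e : G) (p : G → F4 → G) (o x : G) : Prop :=
  ∃ c, InP D w e c ∧ ¬ Commute o c ∧ ¬ Commute c x ∧ (Ty w p o c ↔ Ty w p c x)

theorem sgn_iff {o x c : G} (ho : InP D w e o) (hx : InP D w e x) (hc : InP D w e c)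
    (hoc : ¬ Commute o c) (hcx : ¬ Commute c x) :
    Sgn D w e p o x ↔ (Ty w p o c ↔ Ty w p c x) := by
  constructor
  · rintro ⟨c', hc', h1, h2, h3⟩
    exact (ty_indep hU F ho hx hc' hc h1 h2 hoc hcx).1 h3
  · intro h
    exact ⟨c, hc, hoc, hcx, h⟩

theorem sgn_of_not {o x : G} (ho : InP D w e o) (hx : InP D w e x) (hox : ¬ Commute o x) :
    Sgn D w e p o x ↔ Ty w p o x := by
  have h := hU.fd
  have h1 : ¬ Commute o (o * x * o) := fun hh => not_comm_third h ho.mem hx.mem hox hh.symm
  have h2 : ¬ Commute (o * x * o) x := not_comm_third' h ho.mem hx.mem hox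
  have hc := InP.conj hU F.hw F.he F.hwe ho hx
  rw [sgn_iff hU F ho hx hc h1 h2]
  have t1 := ty_tri hU F ho hc hx h1 hox h2
  grind

theorem sgn_ty {o x y : G} (ho : InP D w e o) (hx : InP D w e x) (hy : InP D w e y)
    (hxy : ¬ Commute x y) : Ty w p x y ↔ (Sgn D w e p o x ↔ Sgn D w e p o y) := by
  have h := hU.fd
  by_cases hox : Commute o x
  · by_cases hoy : Commute o y
    · obtain ⟨c, hc, hco, hcx⟩ := exists_common hU F.hw F.he F.hwe ho hx hox
      have hoc : ¬ Commute o c := fun hh => hco hh.symm
      -- it is enough to find `c` not commuting with `y` either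
      have key : ∀ c, InP D w e c → ¬ Commute o c → ¬ Commute c x → ¬ Commute c y →
          (Ty w p x y ↔ (Sgn D w e p o x ↔ Sgn D w e p o y)) := by
        intro c hc hoc hcx hcy
        rw [sgn_iff hU F ho hx hc hoc hcx, sgn_iff hU F ho hy hc hoc hcy]
        have t1 := ty_tri hU F hc hx hy hcx hcy hxy
        grind
      by_cases hcy : Commute c y
      · have hxc : ¬ Commute x c := fun hh => hcx hh.symm
        apply key (x * c * x) (InP.conj hU F.hw F.he F.hwe hx hc)
        · intro hh
          have := hh.symm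
          rw [h.commute_conj_left_iff hx.mem, (h.commute_iff hx.mem o).1 hox.symm] at this
          exact hco this
        · exact not_comm_third h hx.mem hc.mem hxc
        · rw [h.braid x hx.mem c hc.mem hxc, h.commute_conj_left_iff hc.mem,
            (h.commute_iff hc.mem y).1 hcy]
          exact hxy
      · exact key c hc hoc hcx hcy
    · have hyx : ¬ Commute y x := fun hh => hxy hh.symm
      rw [sgn_of_not hU F ho hy hoy, sgn_iff hU F ho hx hy hoy hyx, ty_symm hU F hx hy hxy]
      grind
  · by_cases hoy : Commute o y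
    · rw [sgn_of_not hU F ho hx hox, sgn_iff hU F ho hy hx hox hxy]
      grind
    · rw [sgn_of_not hU F ho hx hox, sgn_of_not hU F ho hy hoy]
      have t1 := ty_tri hU F ho hx hy hox hoy hxy
      grind

end Sign

/-! ### Relabelling -/

section Relabel

variable {w e : G} {p : G → F4 → G}

theorem sq_injective : Function.Injective (fun a : F4 => a ^ 2) := by
  intro a b h
  have h1 : (a ^ 2) ^ 2 = (b ^ 2) ^ 2 := by
    have h' : a ^ 2 = b ^ 2 := h
    rw [h']
  rwa [sq_sq, sq_sq] at h1

theorem lab_frob {y : G} {q : F4 → G} (h : Lab D w y q) : Lab D w y (fun a => q (a ^ 2)) := by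
  refine ⟨?_, ?_, ?_, ?_, ?_⟩
  · show q (0 ^ 2) = y
    rw [(sq_eq_zero 0).2 rfl]
    exact h.zero
  · exact h.inj.comp sq_injective
  · intro a; exact h.mem _
  · intro a; exact h.ne _
  · intro z hz hzw
    obtain ⟨a, ha⟩ := h.surj z hz hzw
    refine ⟨a ^ 2, ?_⟩
    show q ((a ^ 2) ^ 2) = z
    rw [sq_sq]; exact ha

theorem tr_frob {g : G} {q : F4 → G} {m : F4} (h : Tr g q m) :
    Tr g (fun a => q (a ^ 2)) (m ^ 2) := by
  intro a
  show g * q (a ^ 2) * g⁻¹ = q ((a + m ^ 2) ^ 2)
  rw [h, sq_add, sq_sq]

theorem sg_frob (q : F4 → G) (u : F4) : sg w (fun a => q (a ^ 2)) u = sg w q (u ^ 2) := by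
  by_cases hu : u = 0
  · rw [hu, (sq_eq_zero 0).2 rfl, sg_zero, sg_zero]
  · rw [sg_of_ne w _ hu, sg_of_ne w q (fun h => hu ((sq_eq_zero u).1 h)), (sq_eq_zero 0).2 rfl]

open Classical in
/-- relabelled family -/
noncomputable def relab (s : G → Prop) (p : G → F4 → G) : G → F4 → G :=
  fun y => if s y then p y else fun a => p y (a ^ 2)

theorem relab_pos {s : G → Prop} {y : G} (h : s y) : relab s p y = p y := by
  unfold relab; rw [if_pos h]

theorem relab_neg {s : G → Prop} {y : G} (h : ¬ s y) :
    relab s p y = fun a => p y (a ^ 2) := by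
  unfold relab; rw [if_neg h]

theorem fam_relab (F : Fam D w e p) (s : G → Prop) : Fam D w e (relab s p) := by
  refine ⟨F.hw, F.he, F.hwe, ?_⟩
  intro y hy
  by_cases h : s y
  · rw [relab_pos h]; exact F.lab y hy
  · rw [relab_neg h]; exact lab_frob (F.lab y hy)

end Relabel

/-- **Coherent labels exist.** -/
theorem exists_coherent (hU : UPolar D) {w e : G} (hw : w ∈ D) (he : e ∈ D)
    (hwe : ¬ Commute w e) :
    ∃ p : G → F4 → G, Fam D w e p ∧ ∀ z y, InP D w e z → InP D w e y →
      ∀ u, phi p y (sg w (p z) u) = u * phi p y (sg w (p z) 1) := by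
  classical
  -- some labels
  have h0 : ∀ y : G, ∃ q : F4 → G, InP D w e y → Lab D w y q := by
    intro y
    by_cases hy : InP D w e y
    · obtain ⟨q, hq⟩ := exists_lab hU hw hy.mem (hy.ne hwe) hy.cw
      exact ⟨q, fun _ => hq⟩
    · exact ⟨fun _ => 1, fun h => absurd h hy⟩
  choose p hp using h0
  have F : Fam D w e p := ⟨hw, he, hwe, hp⟩
  by_cases hP : ∃ o, InP D w e o
  · obtain ⟨o, ho⟩ := hP
    refine ⟨relab (Sgn D w e p o) p, fam_relab F _, ?_⟩
    intro z y hz hy u
    have F' := fam_relab F (Sgn D w e p o)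
    by_cases hzy : Commute z y
    · rw [(phi_sg_eq_zero hU F' hz hy u).2 (Or.inr hzy),
        (phi_sg_eq_zero hU F' hz hy 1).2 (Or.inr hzy), mul_zero]
    · have key := sgn_ty hU F ho hz hy hzy
      have hB := addInj hU F hz hy hzy
      have hph : ∀ g m, Tr g (p y) m → phi (relab (Sgn D w e p o) p) y g
          = if Sgn D w e p o y then m else m ^ 2 := by
        intro g m hg
        by_cases hs : Sgn D w e p o y
        · rw [if_pos hs]
          apply phi_eq F' hy
          rw [relab_pos hs]; exact hg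
        · rw [if_neg hs]
          apply phi_eq F' hy
          rw [relab_neg hs]; exact tr_frob hg
      have hval : ∀ v, phi (relab (Sgn D w e p o) p) y (sg w (relab (Sgn D w e p o) p z) v)
          = if Sgn D w e p o y then
              phi p y (sg w (p z) (if Sgn D w e p o z then v else v ^ 2))
            else (phi p y (sg w (p z) (if Sgn D w e p o z then v else v ^ 2))) ^ 2 := by
        intro v
        by_cases hs : Sgn D w e p o z
        · rw [relab_pos hs, if_pos hs]
          exact hph _ _ (tr_sg hU F hz hy v)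
        · rw [relab_neg hs, if_neg hs, sg_frob]
          exact hph _ _ (tr_sg hU F hz hy (v ^ 2))
      rw [hval u, hval 1]
      have one_sq : (1 : F4) ^ 2 = 1 := by decide
      by_cases hsz : Sgn D w e p o z
      · by_cases hsy : Sgn D w e p o y
        · simp only [if_pos hsz, if_pos hsy]
          exact (key.2 (iff_of_true hsz hsy)) u
        · have hsemi := hB.semi_iff.2 (fun hl => hsy ((key.1 hl).1 hsz))
          simp only [if_pos hsz, if_neg hsy]
          have := hsemi u
          simp only at this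
          rw [this, sq_mul, sq_sq]
      · by_cases hsy : Sgn D w e p o y
        · have hsemi := hB.semi_iff.2 (fun hl => hsz ((key.1 hl).2 hsy))
          simp only [if_neg hsz, if_pos hsy]
          have := hsemi (u ^ 2)
          simp only at this
          rw [this, sq_sq, one_sq]
        · have hlin := (key.2 (iff_of_false hsz hsy))
          simp only [if_neg hsz, if_neg hsy]
          have := hlin (u ^ 2)
          simp only at this
          rw [this, sq_mul, sq_sq, one_sq]
  · refine ⟨p, F, ?_⟩
    intro z y hz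
    exact absurd ⟨z, hz⟩ hP

end Cfsg.Agent.Fischer468.Coherent
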