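import Cfsg.Agent.SporadicA.FieldFour

set_option autoImplicit false

/-!
# Additive bijections of the field with four elements
-/

namespace Cfsg.Agent.Fischer468.FieldMaps

open Cfsg.Agent.SporadicA.FieldFour

theorem fourth : ∀ m c t : F4, m ≠ 0 → c ≠ 0 → c ≠ m → t ≠ 0 → t ≠ m → t ≠ c → t = c + m := by
  decide

theorem add_self' : ∀ a : F4, a + a = 0 := by decide

theorem add_ne : ∀ a b : F4, a ≠ b → a + b ≠ 0 := by decide

theorem add_ne_left : ∀ a b : F4, b ≠ 0 → a + b ≠ a := by decide

theorem add_ne_right : ∀ a b : F4, a ≠ 0 → a + b ≠ b := by decide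

theorem four_cases : ∀ a : F4, a = 0 ∨ a = 1 ∨ a = F4.w ∨ a = F4.v := by decide

theorem two_mults : ∀ b c : F4, b ≠ 0 → c ≠ 0 → c ≠ b → c = F4.w * b ∨ c = F4.v * b := by decide

theorem w_add : F4.w = F4.v + 1 := by decide

theorem v_eq : F4.v = F4.w + 1 := by decide

theorem w_sq : F4.w ^ 2 = F4.v := by decide

theorem v_sq : F4.v ^ 2 = F4.w := by decide

theorem pow_four' : ∀ a : F4, a ^ 4 = a := by decide

theorem sq_sq : ∀ a : F4, (a ^ 2) ^ 2 = a := by decide

theorem sq_add : ∀ a b : F4, (a + b) ^ 2 = a ^ 2 + b ^ 2 := by decide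

theorem sq_mul : ∀ a b : F4, (a * b) ^ 2 = a ^ 2 * b ^ 2 := by decide

theorem sq_eq_zero : ∀ a : F4, a ^ 2 = 0 ↔ a = 0 := by decide

theorem cube : ∀ a : F4, a ≠ 0 → a * a ^ 2 = 1 := by decide

theorem eq_sq_of_mul : ∀ a b : F4, a * b = 1 → b = a ^ 2 := by decide

theorem exists_root : ∀ b c : F4, b ≠ 0 → c ≠ 0 → ∃ u : F4, u ≠ 0 ∧ u * b + u ^ 2 * c = 0 := by
  decide

theorem no_common : ∀ b c : F4, b ≠ 0 → b + c = 0 → F4.w * b + F4.w ^ 2 * c = 0 → False := by
  decide

/-- `B` is multiplication by a scalar -/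
def Lin (B : F4 → F4) : Prop := ∀ u, B u = u * B 1

/-- `B` is the Frobenius followed by multiplication by a scalar -/
def Semi (B : F4 → F4) : Prop := ∀ u, B u = u ^ 2 * B 1

/-- additive bijection -/
structure AddInj (B : F4 → F4) : Prop where
  add : ∀ a b, B (a + b) = B a + B b
  inj : ∀ a, B a = 0 → a = 0

namespace AddInj

variable {B C : F4 → F4}

theorem zero (hB : AddInj B) : B 0 = 0 := by
  have h := hB.add 0 0
  rw [add_zero] at h
  have h2 : B 0 + 0 = B 0 + B 0 := by rw [add_zero]; exact h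
  exact (add_left_cancel h2).symm

theorem one_ne (hB : AddInj B) : B 1 ≠ 0 := fun h => absurd (hB.inj 1 h) (by decide)

theorem injective (hB : AddInj B) : Function.Injective B := by
  intro a b hab
  by_contra hne
  apply add_ne a b hne
  apply hB.inj
  rw [hB.add, hab, add_self']

theorem lin_or_semi (hB : AddInj B) : Lin B ∨ Semi B := by
  have hw0 : B F4.w ≠ 0 := fun h => absurd (hB.inj _ h) (by decide)
  have hw1 : B F4.w ≠ B 1 := fun h => absurd (hB.injective h) (by decide)
  have hv : B F4.v = B F4.w + B 1 := by rw [v_eq, hB.add]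
  rcases two_mults (B 1) (B F4.w) hB.one_ne hw0 hw1 with h | h
  · left
    intro u
    rcases four_cases u with rfl | rfl | rfl | rfl
    · rw [hB.zero, zero_mul]
    · rw [one_mul]
    · exact h
    · rw [hv, h]
      generalize B 1 = b
      revert b; decide
  · right
    intro u
    rcases four_cases u with rfl | rfl | rfl | rfl
    · rw [hB.zero]; generalize B 1 = b; revert b; decide
    · generalize B 1 = b; revert b; decide
    · rw [w_sq]; exact h
    · rw [hv, h, v_sq]
      generalize B 1 = b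
      revert b; decide

theorem not_both (hB : AddInj B) (h1 : Lin B) (h2 : Semi B) : False := by
  have a := h1 F4.w
  have b := h2 F4.w
  rw [a] at b
  have := hB.one_ne
  revert this b
  generalize B 1 = c
  revert c; decide

theorem semi_iff (hB : AddInj B) : Semi B ↔ ¬ Lin B := by
  constructor
  · intro h h1; exact hB.not_both h1 h
  · intro h; exact hB.lin_or_semi.resolve_left h

theorem comp (hB : AddInj B) (hC : AddInj C) : AddInj (fun u => C (B u)) :=
  ⟨fun a b => by rw [hB.add, hC.add], fun a h => hB.inj _ (hC.inj _ h)⟩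

theorem not_lin_semi (hB : AddInj B) (hC : AddInj C) (h1 : Lin B) (h2 : Semi C)
    (h : (∀ u, B u + C u = 0) ∨ ∀ u, u ≠ 0 → B u + C u ≠ 0) : False := by
  rcases h with h | h
  · have a := h 1
    have b := h F4.w
    rw [h1 F4.w, h2 F4.w] at b
    exact no_common _ _ hB.one_ne a b
  · obtain ⟨u, hu, hu2⟩ := exists_root (B 1) (C 1) hB.one_ne hC.one_ne
    apply h u hu
    rw [h1 u, h2 u]
    exact hu2

/-- the sum of two maps of different type is neither zero nor injective -/
theorem lin_iff (hB : AddInj B) (hC : AddInj C)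
    (h : (∀ u, B u + C u = 0) ∨ ∀ u, u ≠ 0 → B u + C u ≠ 0) : Lin B ↔ Lin C := by
  have h' : (∀ u, C u + B u = 0) ∨ ∀ u, u ≠ 0 → C u + B u ≠ 0 := by
    rcases h with h | h
    · left; intro u; rw [add_comm]; exact h u
    · right; intro u hu; rw [add_comm]; exact h u hu
  constructor
  · intro h1
    by_contra h2
    exact not_lin_semi hB hC h1 (hC.semi_iff.2 h2) h
  · intro h1
    by_contra h2
    exact not_lin_semi hC hB h1 (hB.semi_iff.2 h2) h'

theorem lin_comp (hB : AddInj B) (hC : AddInj C) :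
    Lin (fun u => C (B u)) ↔ (Lin C ↔ Lin B) := by
  have hBC := hB.comp hC
  by_cases h1 : Lin B
  · by_cases h2 : Lin C
    · refine iff_of_true ?_ (iff_of_true h2 h1)
      intro u
      show C (B u) = u * C (B 1)
      rw [h1 u, h2 (u * B 1), h2 (B 1), mul_assoc]
    · refine iff_of_false ?_ (fun h => h2 (h.2 h1))
      rw [← hBC.semi_iff]
      have h2' := hC.semi_iff.2 h2
      intro u
      show C (B u) = u ^ 2 * C (B 1)
      rw [h1 u, h2' (u * B 1), h2' (B 1), sq_mul, mul_assoc]
  · have h1' := hB.semi_iff.2 h1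
    by_cases h2 : Lin C
    · refine iff_of_false ?_ (fun h => h1 (h.1 h2))
      rw [← hBC.semi_iff]
      intro u
      show C (B u) = u ^ 2 * C (B 1)
      rw [h1' u, h2 (u ^ 2 * B 1), h2 (B 1), mul_assoc]
    · refine iff_of_true ?_ (iff_of_false h2 h1)
      have h2' := hC.semi_iff.2 h2
      intro u
      show C (B u) = u * C (B 1)
      rw [h1' u, h2' (u ^ 2 * B 1), h2' (B 1), sq_mul, sq_sq, mul_assoc]

/-- the inverse has the same type -/
theorem lin_of_inverse (hB : AddInj B) (h : ∀ u v, B u = v → C v = u) :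
    Lin B → Lin C := by
  intro h1 v
  have hb := hB.one_ne
  -- `B (v * b⁻¹) = v`, with `b = B 1`
  have key : ∀ v : F4, C v = v * (B 1) ^ 2 := by
    intro v
    apply h
    rw [h1]
    have := cube _ hb
    calc v * (B 1) ^ 2 * B 1 = v * (B 1 * (B 1) ^ 2) := by ring
      _ = v := by rw [this, mul_one]
  rw [key v, key 1, one_mul]

end AddInj

end Cfsg.Agent.Fischer468.FieldMaps
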