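import Cfsg.Agent.Fischer468.NGroup

set_option autoImplicit false
set_option linter.constructorNameAsVariable false

/-!
# Good elements of `N`: those `g` for which `g e g⁻¹` commutes with `e`
-/

namespace Cfsg.Agent.Fischer468.Good

open Cfsg Cfsg.Agent.SporadicStructure.FischerSpace Cfsg.Agent.Fischer468.Lines
open Cfsg.Agent.Fischer468.FieldMaps Cfsg.Agent.SporadicA.FieldFour
open Cfsg.Agent.Fischer468.Labels Cfsg.Agent.Fischer468.Orient Cfsg.Agent.Fischer468.NGroup

variable {G : Type*} [Group G] {D : Set G}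

section

variable {w e : G} {p : G → F4 → G} (hU : UPolar D) (F : Fam D w e p)
include hU F

/-- points `≠ z`, of the line through `w` and `z` do not commute with `e` -/
theorem lab_not_comm_e {z : G} (hz : InP D w e z) {u : F4} (hu : u ≠ 0) :
    ¬ Commute (p z u) e := by
  intro hc
  have hL := isLine_Ln F.hw hz.mem (hz.ne F.hwe) hz.cw
  have hpz := F.lab z hz
  have hne : p z u ≠ z := fun h1 => hu (hpz.inj (h1.trans hpz.zero.symm))
  exact F.hwe (hL.all hU (hpz.mem u) (right_mem hz.mem) hne F.he hc.symm hz.ce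
    (left_mem F.hw)).symm

/-- conjugation of `e` by an even element -/
theorem sg_conj_e {z : G} (hz : InP D w e z) {u : F4} (hu : u ≠ 0) :
    sg w (p z) u * e * (sg w (p z) u)⁻¹ = w * p z u * e * (p z u * w) := by
  have hpz := F.lab z hz
  have h := hU.fd
  have sz := h.sq z hz.mem
  have iw := h.inv_eq F.hw
  have iz := h.inv_eq hz.mem
  have ip := h.inv_eq (hpz.mem u).1
  have cwz := hz.cw.eq
  have czp := (lab_comm hU F.hw hz.mem (hz.ne F.hwe) hz.cw hpz 0 u).eq
  have cwp := (lab_comm_w hU F.hw hz.mem (hz.ne F.hwe) hz.cw hpz u).eq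
  rw [hpz.zero] at czp
  have cez := hz.ce.eq
  rw [sg_of_ne w _ hu, hpz.zero, mul_inv_rev, mul_inv_rev, iw, iz, ip]
  calc w * z * p z u * e * (p z u * (z * w)) = w * (z * p z u) * e * (p z u * z) * w := by
        simp only [mul_assoc]
    _ = w * (p z u * z) * e * (z * p z u) * w := by rw [czp]
    _ = w * p z u * (z * e) * z * (p z u * w) := by simp only [mul_assoc]
    _ = w * p z u * (e * z) * z * (p z u * w) := by rw [cez]
    _ = w * p z u * e * (z * z) * (p z u * w) := by simp only [mul_assoc]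
    _ = w * p z u * e * (p z u * w) := by rw [sz, mul_one]

theorem sg_conj_e_mem {z : G} (hz : InP D w e z) (u : F4) :
    sg w (p z) u * e * (sg w (p z) u)⁻¹ ∈ Ln D z e := by
  by_cases hu : u = 0
  · rw [hu, sg_zero, one_mul, inv_one, mul_one]
    exact right_mem F.he
  · rw [sg_conj_e hU F hz hu]
    have hL := isLine_Ln F.hw hz.mem (hz.ne F.hwe) hz.cw
    exact hL.conj_two_mem hU (right_mem hz.mem) (left_mem F.hw) ((F.lab z hz).mem u)
      (hz.ne F.hwe) (fun h1 => hu ((F.lab z hz).inj (h1.trans (F.lab z hz).zero.symm))) F.he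
      hz.ce.symm

/-- (4), easy direction -/
theorem good_sg {z : G} (hz : InP D w e z) (u : F4) :
    Commute (sg w (p z) u * e * (sg w (p z) u)⁻¹) e :=
  (comm_of_mem hz.mem F.he hz.ce.symm (sg_conj_e_mem hU F hz u) (right_mem F.he))

theorem sg_conj_e_inj {z : G} (hz : InP D w e z) :
    Function.Injective (fun u => sg w (p z) u * e * (sg w (p z) u)⁻¹) := by
  have h := hU.fd
  have key : ∀ u v : F4, u ≠ 0 → sg w (p z) u * e * (sg w (p z) u)⁻¹ =
      sg w (p z) v * e * (sg w (p z) v)⁻¹ → u = v := by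
    intro u v hu huv
    by_cases hv : v = 0
    · exfalso
      rw [hv, sg_zero, one_mul, inv_one, mul_one, sg_conj_e hU F hz hu] at huv
      exact conj_two_ne h F.hw ((F.lab z hz).mem u).1 F.he ((F.lab z hz).ne u).symm F.hwe
        (lab_not_comm_e hU F hz hu) huv
    · rw [sg_conj_e hU F hz hu, sg_conj_e hU F hz hv] at huv
      have sw := h.sq w F.hw
      have e1 : p z u * e * p z u = p z v * e * p z v := by
        calc p z u * e * p z u = w * (w * p z u * e * (p z u * w)) * w := by
              have : w * (w * p z u * e * (p z u * w)) * w =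
                (w * w) * (p z u * e * p z u) * (w * w) := by simp only [mul_assoc]
              rw [this, sw, one_mul, mul_one]
          _ = w * (w * p z v * e * (p z v * w)) * w := by rw [huv]
          _ = p z v * e * p z v := by
              have : w * (w * p z v * e * (p z v * w)) * w =
                (w * w) * (p z v * e * p z v) * (w * w) := by simp only [mul_assoc]
              rw [this, sw, one_mul, mul_one]
      exact (F.lab z hz).inj (eq_of_conj_eq h ((F.lab z hz).mem u).1 ((F.lab z hz).mem v).1 F.he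
        (lab_not_comm_e hU F hz hu) (lab_not_comm_e hU F hz hv) e1)
  intro u v huv
  by_cases hu : u = 0
  · by_cases hv : v = 0
    · rw [hu, hv]
    · exact (key v u hv huv.symm).symm
  · exact key u v hu huv

/-- the points `≠ z` of the line through `z` and `e` -/
theorem sg_conj_e_surj {z : G} (hz : InP D w e z) {d : G} (hd : d ∈ Ln D z e) (hdz : d ≠ z) :
    ∃ u : F4, sg w (p z) u * e * (sg w (p z) u)⁻¹ = d := by
  classical
  have hze : z ≠ e := by
    intro h1
    have := hz.cw
    rw [h1] at this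
    exact F.hwe this
  have hcard : (Ln D z e).ncard = 5 := hU.card z hz.mem e F.he hze hz.ce.symm
  have hfin : (Ln D z e).Finite := Ln_finite hU hz.mem F.he hze hz.ce.symm
  let f : F4 → G := fun u => sg w (p z) u * e * (sg w (p z) u)⁻¹
  have hfmem : ∀ u, f u ∈ Ln D z e \ {z} := by
    intro u
    refine ⟨sg_conj_e_mem hU F hz u, ?_⟩
    intro h1
    have h1' : sg w (p z) u * e * (sg w (p z) u)⁻¹ = z := h1
    apply F.hwe
    -- `w` commutes with `z`, hence with `e`
    have key : ∀ s a b : G, s * a * s⁻¹ = b → a = s⁻¹ * b * s := by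
      rintro s a b rfl
      group
    have h2 : e = (sg w (p z) u)⁻¹ * z * sg w (p z) u := key _ _ _ h1'
    have h3 : Commute w (sg w (p z) u) :=
      sg_comm_w hU F.hw hz.mem (hz.ne F.hwe) hz.cw (F.lab z hz) u
    rw [h2]
    exact (h3.inv_right.mul_right hz.cw).mul_right h3
  have hc1 : (Ln D z e \ {z}).ncard + 1 = (Ln D z e).ncard :=
    Set.ncard_sdiff_singleton_add_one (left_mem hz.mem) hfin
  have hc2 : (Set.range f).ncard = 4 := by
    have hinj : Function.Injective f := sg_conj_e_inj hU F hz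
    have h1 := Set.ncard_image_of_injective (Set.univ : Set F4) hinj
    rw [Set.image_univ] at h1
    rw [h1, Set.ncard_univ, Nat.card_eq_fintype_card]
    rfl
  have hsub : Set.range f ⊆ Ln D z e \ {z} := by
    rintro _ ⟨u, rfl⟩
    exact hfmem u
  have heq : Set.range f = Ln D z e \ {z} :=
    Set.eq_of_subset_of_ncard_le hsub (by omega) (hfin.subset Set.sdiff_subset)
  have hmem : d ∈ Ln D z e \ {z} := ⟨hd, hdz⟩
  rw [← heq] at hmem
  exact hmem

/-- there is a point commuting with `w` and `e` -/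
theorem exists_inP [Finite G] : ∃ z, InP D w e z := by
  obtain ⟨x, hx, y, hy, hxy, hc⟩ := hU.ex
  obtain ⟨g, hg⟩ := hU.fd.single x hx w F.hw
  have hy' : g * y * g⁻¹ ∈ D := hU.fd.conj g y hy
  have hne : w ≠ g * y * g⁻¹ := by
    rw [← hg]
    intro h1
    exact hxy (mul_left_cancel (mul_right_cancel h1))
  have hc' : Commute w (g * y * g⁻¹) := by
    rw [← hg, FData.commute_conj_gen]; exact hc
  obtain ⟨z, hz, hez⟩ := hU.one w F.hw _ hy' hne hc' e F.he
  exact ⟨z, hz.1, comm_of_mem F.hw hy' hc' (left_mem F.hw) hz, hez⟩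

/-- (4) -/
theorem good_iff [Finite G] (hfree : ∀ g ∈ Nsub D w e p, g * e * g⁻¹ = e → g = 1) {g : G}
    (hg : g ∈ Nsub D w e p) :
    Commute (g * e * g⁻¹) e ↔ ∃ z, InP D w e z ∧ ∃ u : F4, g = sg w (p z) u := by
  constructor
  · intro hc
    by_cases hee : g * e * g⁻¹ = e
    · obtain ⟨z, hz⟩ := exists_inP hU F
      exact ⟨z, hz, 0, by rw [sg_zero]; exact hfree g hg hee⟩
    · have he'D : g * e * g⁻¹ ∈ D := hU.fd.conj g e F.he
      have hcwg := comm_w_N hU F hg
      obtain ⟨z, hz, hwz⟩ := hU.one e F.he _ he'D (Ne.symm hee) hc.symm w F.hw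
      have hL := isLine_Ln F.he he'D (Ne.symm hee) hc.symm
      have hzP : InP D w e z := ⟨hz.1, hwz, hL.comm (left_mem F.he) hz⟩
      have hze : z ≠ e := by
        rintro rfl
        exact F.hwe hwz
      have he'z : g * e * g⁻¹ ≠ z := by
        intro h1
        apply F.hwe
        have h2 : e = g⁻¹ * z * g := by rw [← h1]; group
        rw [h2]
        exact (hcwg.inv_right.mul_right hwz).mul_right hcwg
      have hL2 : Ln D z e = Ln D e (g * e * g⁻¹) := hL.eq hU hz (left_mem F.he) hze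
      obtain ⟨u, hu⟩ := sg_conj_e_surj hU F hzP (d := g * e * g⁻¹)
        (by rw [hL2]; exact right_mem he'D) he'z
      refine ⟨z, hzP, u, ?_⟩
      have h3 := hfree ((sg w (p z) u)⁻¹ * g) (mul_mem (inv_mem (sg_mem hzP u)) hg) (by
        rw [mul_inv_rev, inv_inv]
        calc (sg w (p z) u)⁻¹ * g * e * (g⁻¹ * sg w (p z) u)
            = (sg w (p z) u)⁻¹ * (g * e * g⁻¹) * sg w (p z) u := by group
          _ = (sg w (p z) u)⁻¹ * (sg w (p z) u * e * (sg w (p z) u)⁻¹) * sg w (p z) u := by
              rw [hu]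
          _ = e := by group)
      rw [inv_mul_eq_one] at h3
      exact h3.symm
  · rintro ⟨z, hz, u, rfl⟩
    exact good_sg hU F hz u

/-- (5) -/
theorem invol [Finite G] (hfree : ∀ g ∈ Nsub D w e p, g * e * g⁻¹ = e → g = 1)
    (hfree' : ∀ g ∈ Nsub D w e p, ∀ d ∈ D, ¬ Commute w d → g * d * g⁻¹ = d → g = 1) {g : G}
    (hg : g ∈ Nsub D w e p) (hgg : g * g = 1) :
    (∃ z, InP D w e z ∧ ∃ u : F4, g = sg w (p z) u) ∨
      (∃ z, InP D w e z ∧ ∃ u : F4, w * g = sg w (p z) u) := by
  by_cases hc : Commute (g * e * g⁻¹) e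
  · left
    exact (good_iff hU F hfree hg).1 hc
  · right
    have h := hU.fd
    set e' := g * e * g⁻¹ with he'
    have he'D : e' ∈ D := h.conj g e F.he
    have hc' : ¬ Commute e e' := fun h1 => hc h1.symm
    have hge' : g * e' * g⁻¹ = e := by
      rw [he']
      calc g * (g * e * g⁻¹) * g⁻¹ = (g * g) * e * (g * g)⁻¹ := by group
        _ = e := by rw [hgg, one_mul, inv_one, mul_one]
    have hfD : e * e' * e ∈ D := h.conj' F.he he'D
    have hfix : g * (e * e' * e) * g⁻¹ = e * e' * e := by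
      calc g * (e * e' * e) * g⁻¹ = (g * e * g⁻¹) * (g * e' * g⁻¹) * (g * e * g⁻¹) := by group
        _ = e' * e * e' := by rw [hge', ← he']
        _ = e * e' * e := (h.braid e F.he e' he'D hc').symm
    have hwf : Commute w (e * e' * e) := by
      by_contra hwf
      have h1 := hfree' g hg _ hfD hwf hfix
      apply hc
      rw [he', h1, one_mul, inv_one, mul_one]
    have hef : ¬ Commute (e * e' * e) e := not_comm_third h F.he he'D hc'
    have he'f : e' = (e * e' * e) * e * (e * e' * e) := (h.third_conj F.he he'D hc').symm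
    have h1 := comm_conj_two h F.hw hfD F.he hwf F.hwe hef
    have h2 : (w * g) * e * (w * g)⁻¹ = w * (e * e' * e) * e * ((e * e' * e) * w) := by
      have iw := h.inv_eq F.hw
      calc (w * g) * e * (w * g)⁻¹ = w * (g * e * g⁻¹) * w⁻¹ := by group
        _ = w * e' * w := by rw [iw, ← he']
        _ = w * ((e * e' * e) * e * (e * e' * e)) * w := by rw [← he'f]
        _ = w * (e * e' * e) * e * ((e * e' * e) * w) := by simp only [mul_assoc]
    rw [← h2] at h1
    exact (good_iff hU F hfree (mul_mem w_mem hg)).1 h1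

/-- (6) -/
theorem not_both {g : G} (hg : g ∈ Nsub D w e p) (hc : Commute (g * e * g⁻¹) e) :
    ¬ Commute ((w * g) * e * (w * g)⁻¹) e := by
  intro hc2
  have h := hU.fd
  have iw := h.inv_eq F.hw
  have hcwg := comm_w_N hU F hg
  have he'D : g * e * g⁻¹ ∈ D := h.conj g e F.he
  have h1 : ¬ Commute (g * e * g⁻¹) w := by
    intro h1
    apply F.hwe
    have h2 : e = g⁻¹ * (g * e * g⁻¹) * g := by group
    rw [h2]
    exact (hcwg.inv_right.mul_right h1.symm).mul_right hcwg
  have h2 : (w * g) * e * (w * g)⁻¹ = w * (g * e * g⁻¹) * w := by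
    calc (w * g) * e * (w * g)⁻¹ = w * (g * e * g⁻¹) * w⁻¹ := by group
      _ = w * (g * e * g⁻¹) * w := by rw [iw]
  rw [h2] at hc2
  have h3 : w * (g * e * g⁻¹) * w = (g * e * g⁻¹) * w * (g * e * g⁻¹) :=
    h.braid w F.hw _ he'D (fun h4 => h1 h4.symm)
  have h4 := h.third_conj he'D F.hw h1
  rw [← h3] at h4
  apply F.hwe
  rw [← h4]
  exact (hc2.mul_left hc).mul_left hc2

/-- (7) -/
theorem good_mul {z y : G} (hz : InP D w e z) (hy : InP D w e y) (hzy : Commute z y) (u v : F4) :
    Commute ((sg w (p z) u * sg w (p y) v) * e * (sg w (p z) u * sg w (p y) v)⁻¹) e := by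
  by_cases hne : z = y
  · subst hne
    rw [← sg_add hU F.hw hz.mem (hz.ne F.hwe) hz.cw (F.lab z hz)]
    exact good_sg hU F hz _
  have h := hU.fd
  obtain ⟨e', he'⟩ : ∃ e', e' = sg w (p y) v * e * (sg w (p y) v)⁻¹ := ⟨_, rfl⟩
  have he'L : e' ∈ Ln D y e := by rw [he']; exact sg_conj_e_mem hU F hy v
  have he'D : e' ∈ D := he'L.1
  have hze' : Commute z e' := he'L.2 z hz.mem hzy hz.ce.symm
  have hee' : Commute e e' := comm_of_mem hy.mem F.he hy.ce.symm (right_mem F.he) he'L
  have e1 : (sg w (p z) u * sg w (p y) v) * e * (sg w (p z) u * sg w (p y) v)⁻¹ =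
      sg w (p z) u * e' * (sg w (p z) u)⁻¹ := by rw [he']; group
  rw [e1]
  by_cases hu : u = 0
  · rw [hu, sg_zero, one_mul, inv_one, mul_one]
    exact hee'.symm
  have hpz := F.lab z hz
  have sz := h.sq z hz.mem
  have iw := h.inv_eq F.hw
  have iz := h.inv_eq hz.mem
  have ip := h.inv_eq (hpz.mem u).1
  have cwz := hz.cw.eq
  have czp := (lab_comm hU F.hw hz.mem (hz.ne F.hwe) hz.cw hpz 0 u).eq
  rw [hpz.zero] at czp
  have e2 : sg w (p z) u * e' * (sg w (p z) u)⁻¹ = w * p z u * e' * (p z u * w) := by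
    rw [sg_of_ne w _ hu, hpz.zero, mul_inv_rev, mul_inv_rev, iw, iz, ip]
    calc w * z * p z u * e' * (p z u * (z * w)) = w * (z * p z u) * e' * (p z u * z) * w := by
          simp only [mul_assoc]
      _ = w * (p z u * z) * e' * (z * p z u) * w := by rw [czp]
      _ = w * p z u * (z * e') * z * (p z u * w) := by simp only [mul_assoc]
      _ = w * p z u * (e' * z) * z * (p z u * w) := by rw [hze'.eq]
      _ = w * p z u * e' * (z * z) * (p z u * w) := by simp only [mul_assoc]
      _ = w * p z u * e' * (p z u * w) := by rw [sz, mul_one]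
  rw [e2]
  have hL := isLine_Ln F.hw hz.mem (hz.ne F.hwe) hz.cw
  have h3 := hL.conj_two_mem hU (right_mem hz.mem) (left_mem F.hw) (hpz.mem u) (hz.ne F.hwe)
    (fun h1 => hu (hpz.inj (h1.trans hpz.zero.symm))) he'D hze'
  exact (h3.2 e F.he hz.ce hee').symm

/-- (8) -/
theorem not_good_mul {z y : G} (hz : InP D w e z) (hy : InP D w e y) (hzy : ¬ Commute z y)
    {u v : F4} (hu : u ≠ 0) (hv : v ≠ 0) :
    ¬ Commute ((sg w (p z) u * sg w (p y) v) * e * (sg w (p z) u * sg w (p y) v)⁻¹) e := by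
  intro hc
  obtain ⟨e', he'⟩ : ∃ e', e' = sg w (p y) v * e * (sg w (p y) v)⁻¹ := ⟨_, rfl⟩
  have he'L : e' ∈ Ln D y e := by rw [he']; exact sg_conj_e_mem hU F hy v
  have hne' : e' ≠ e := by
    intro h1
    apply hv
    apply sg_conj_e_inj hU F hy
    show sg w (p y) v * e * (sg w (p y) v)⁻¹ = sg w (p y) 0 * e * (sg w (p y) 0)⁻¹
    rw [← he', h1, sg_zero, one_mul, inv_one, mul_one]
  obtain ⟨e1, he1⟩ : ∃ e1, e1 = sg w (p z) u * e * (sg w (p z) u)⁻¹ := ⟨_, rfl⟩
  have he1L : e1 ∈ Ln D z e := by rw [he1]; exact sg_conj_e_mem hU F hz u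
  have hne1 : e1 ≠ e := by
    intro h1
    apply hu
    apply sg_conj_e_inj hU F hz
    show sg w (p z) u * e * (sg w (p z) u)⁻¹ = sg w (p z) 0 * e * (sg w (p z) 0)⁻¹
    rw [← he1, h1, sg_zero, one_mul, inv_one, mul_one]
  have e2 : (sg w (p z) u * sg w (p y) v) * e * (sg w (p z) u * sg w (p y) v)⁻¹ =
      sg w (p z) u * e' * (sg w (p z) u)⁻¹ := by rw [he']; group
  rw [e2] at hc
  have ssq := sg_sq hU F.hw hz.mem (hz.ne F.hwe) hz.cw (F.lab z hz) u
  have sinv : (sg w (p z) u)⁻¹ = sg w (p z) u := inv_eq_of_mul_eq_one_left ssq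
  have h1 : Commute e' e1 := by
    rw [← FData.commute_conj_gen (sg w (p z) u)]
    have e3 : sg w (p z) u * e1 * (sg w (p z) u)⁻¹ = e := by
      rw [he1, sinv]
      calc sg w (p z) u * (sg w (p z) u * e * sg w (p z) u) * sg w (p z) u
          = (sg w (p z) u * sg w (p z) u) * e * (sg w (p z) u * sg w (p z) u) := by
            simp only [mul_assoc]
        _ = e := by rw [ssq, one_mul, mul_one]
    rw [e3]
    exact hc
  have hze : z ≠ e := by
    rintro rfl
    exact F.hwe hz.cw
  have hye : y ≠ e := by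
    rintro rfl
    exact F.hwe hy.cw
  have hL1 := isLine_Ln hz.mem F.he hze hz.ce.symm
  have hL2 := isLine_Ln hy.mem F.he hye hy.ce.symm
  have hee' : Commute e' e := hL2.comm he'L (right_mem F.he)
  -- `e'` commutes with `z`
  have h2 : Commute e' z :=
    hL1.all hU he1L (right_mem F.he) hne1 he'L.1 h1 hee' (left_mem hz.mem)
  -- `z` commutes with `y`
  exact hzy (hL2.all hU he'L (right_mem F.he) hne' hz.mem h2.symm hz.ce.symm (left_mem hy.mem))

omit F in
/-- inclusion of perps -/
theorem eq_of_perp_sub [Finite G] {x y : G} (hx : x ∈ D) (hy : y ∈ D)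
    (hsub : ∀ d ∈ D, Commute d x → Commute d y) : x = y := by
  have h := hU.fd
  obtain ⟨g, hg⟩ := h.single x hx y hy
  have hcard : ({d | d ∈ D ∧ Commute d x} : Set G).ncard = {d | d ∈ D ∧ Commute d y}.ncard := by
    have hinj : Function.Injective (fun d : G => g * d * g⁻¹) := by
      intro a b hab
      exact mul_left_cancel (mul_right_cancel hab)
    rw [← Set.ncard_image_of_injective _ hinj]
    congr 1
    ext d
    constructor
    · rintro ⟨c, ⟨hc, hcx⟩, rfl⟩
      refine ⟨h.conj g c hc, ?_⟩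
      show Commute (g * c * g⁻¹) y
      rw [← hg, FData.commute_conj_gen]
      exact hcx
    · rintro ⟨hd, hdy⟩
      refine ⟨g⁻¹ * d * g, ⟨?_, ?_⟩, by group⟩
      · have := h.conj g⁻¹ d hd
        rwa [inv_inv] at this
      · rw [← FData.commute_conj_gen g, hg]
        have : g * (g⁻¹ * d * g) * g⁻¹ = d := by group
        rw [this]
        exact hdy
  have hss : ({d | d ∈ D ∧ Commute d x} : Set G) ⊆ {d | d ∈ D ∧ Commute d y} :=
    fun d hd => ⟨hd.1, hsub d hd.1 hd.2⟩
  have heq := Set.eq_of_subset_of_ncard_le hss hcard.ge (Set.toFinite _)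
  apply hU.noTwins x hx y hy
  intro d hd
  constructor
  · exact hsub d hd
  · intro hc
    have : d ∈ ({d | d ∈ D ∧ Commute d x} : Set G) := by rw [heq]; exact ⟨hd, hc⟩
    exact this.2

/-- a point of `P` not commuting with a given one -/
theorem exists_not_comm [Finite G] {x : G} (hx : InP D w e x) :
    ∃ c, InP D w e c ∧ ¬ Commute c x := by
  by_contra hcon
  push Not at hcon
  apply hx.ne F.hwe
  apply eq_of_perp_sub hU F.hw hx.mem
  intro b hb hbw
  by_cases hbw' : b = w
  · rw [hbw']; exact hx.cw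
  · obtain ⟨c, hc, hec⟩ := hU.one w F.hw b hb (Ne.symm hbw') hbw.symm e F.he
    have hL := isLine_Ln F.hw hb (Ne.symm hbw') hbw.symm
    have hcP : InP D w e c := ⟨hc.1, hL.comm (left_mem F.hw) hc, hec⟩
    have hcx := hcon c hcP
    have hcw : c ≠ w := by
      rintro rfl
      exact F.hwe hec.symm
    exact (hL.all hU hc (left_mem F.hw) hcw hx.mem hcx.symm hx.cw.symm (right_mem hb)).symm

/-- (9) nondegeneracy -/
theorem exists_not_comm_two [Finite G] {x y : G} (hx : InP D w e x) (hy : InP D w e y)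
    (hxy : Commute x y) : ∃ c, InP D w e c ∧ ¬ Commute c x ∧ ¬ Commute c y := by
  have h := hU.fd
  obtain ⟨c1, h1, h1x⟩ := exists_not_comm hU F hx
  by_cases h1y : ¬ Commute c1 y
  · exact ⟨c1, h1, h1x, h1y⟩
  rw [not_not] at h1y
  obtain ⟨c2, h2, h2y⟩ := exists_not_comm hU F hy
  by_cases h2x : ¬ Commute c2 x
  · exact ⟨c2, h2, h2x, h2y⟩
  rw [not_not] at h2x
  by_cases h12 : Commute c1 c2
  · have hne : c1 ≠ c2 := by
      rintro rfl
      exact h1x h2x
    have hL := isLine_Ln h1.mem h2.mem hne h12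
    obtain ⟨c3, c4, c5, hc3, -, -, h31, h32, -⟩ :=
      exists_enum (hL.card hU) (left_mem h1.mem) (right_mem h2.mem) hne
    refine ⟨c3, ⟨hc3.1, hc3.2 w F.hw h1.cw h2.cw, hc3.2 e F.he h1.ce h2.ce⟩, ?_, ?_⟩
    · intro h3
      exact h1x (hL.all hU hc3 (right_mem h2.mem) h32 hx.mem h3.symm h2x.symm
        (left_mem h1.mem)).symm
    · intro h3
      exact h2y (hL.all hU hc3 (left_mem h1.mem) h31 hy.mem h3.symm h1y.symm
        (right_mem h2.mem)).symm
  · refine ⟨c1 * c2 * c1, ⟨h.conj' h1.mem h2.mem, (h1.cw.mul_right h2.cw).mul_right h1.cw,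
      (h1.ce.mul_right h2.ce).mul_right h1.ce⟩, ?_, ?_⟩
    · intro h3
      -- `c1 = (c1 c2 c1) c2 (c1 c2 c1)`
      have h4 := h.third_conj h2.mem h1.mem (fun h5 => h12 h5.symm)
      rw [h.braid c2 h2.mem c1 h1.mem (fun h5 => h12 h5.symm)] at h4
      apply h1x
      rw [← h4]
      exact (h3.mul_left h2x).mul_left h3
    · intro h3
      have h4 := h.third_conj h1.mem h2.mem h12
      apply h2y
      rw [← h4]
      exact (h3.mul_left h1y).mul_left h3

end

end Cfsg.Agent.Fischer468.Good
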