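import Cfsg.Agent.Fischer468.Mu
import Cfsg.Agent.Fischer468.Good
import Cfsg.Agent.Fischer920.Kappa
import Cfsg.Agent.Fischer920.Gram

set_option autoImplicit false

/-!
# Polar spaces of 3-transpositions with lines of five points are unitary
-/

namespace Cfsg.Agent.Fischer468.Final

open Cfsg Cfsg.Agent.SporadicStructure.FischerSpace Cfsg.Agent.Fischer468.Lines
open Cfsg.Agent.Fischer468.FieldMaps Cfsg.Agent.SporadicA.FieldFour
open Cfsg.Agent.Fischer468.Labels Cfsg.Agent.Fischer468.Orient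
open Cfsg.Agent.Fischer468.NGroup Cfsg.Agent.Fischer920.PsuEnd Cfsg.Agent.Fischer468.Mu
open Cfsg.Agent.Fischer920.Gram

variable {G : Type*} [Group G] {D : Set G}

/-- the facts about `N` proved elsewhere -/
structure Reg (D : Set G) (w e : G) (p : G → F4 → G) : Prop where
  trans : ∀ d ∈ D, ¬ Commute w d → ∃ g ∈ Nsub D w e p, g * e * g⁻¹ = d
  free : ∀ g ∈ Nsub D w e p, g * e * g⁻¹ = e → g = 1
  free' : ∀ g ∈ Nsub D w e p, ∀ d ∈ D, ¬ Commute w d → g * d * g⁻¹ = d → g = 1
  ker : ∀ g ∈ Nsub D w e p, (∀ y, InP D w e y → phi p y g = 0) → g = 1 ∨ g = w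

section Geo

variable {w e : G} {p : G → F4 → G} (hU : UPolar D) (F : Fam D w e p)
include hU F

theorem lab_comm_iff {y z : G} (hy : InP D w e y) (hz : InP D w e z) (a b : F4) :
    Commute (p y a) (p z b) ↔ Commute y z := by
  have hLy := isLine_Ln F.hw hy.mem (hy.ne F.hwe) hy.cw
  have hLz := isLine_Ln F.hw hz.mem (hz.ne F.hwe) hz.cw
  have py := F.lab y hy
  have pz := F.lab z hz
  have wy : w ∈ Ln D w y := left_mem F.hw
  have wz : w ∈ Ln D w z := left_mem F.hw
  have yy : y ∈ Ln D w y := right_mem hy.mem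
  have zz : z ∈ Ln D w z := right_mem hz.mem
  have cwy := lab_comm_w hU F.hw hy.mem (hy.ne F.hwe) hy.cw py a
  have cwz := lab_comm_w hU F.hw hz.mem (hz.ne F.hwe) hz.cw pz b
  constructor
  · intro h
    -- `p z b` commutes with `w` and `p y a`, hence with `y`
    have h1 : Commute (p z b) y :=
      hLy.all hU wy (py.mem a) (py.ne a).symm (pz.mem b).1 cwz.symm h.symm yy
    exact (hLz.all hU wz (pz.mem b) (pz.ne b).symm hy.mem hy.cw.symm h1.symm zz)
  · intro h
    have h1 : Commute (p z b) y :=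
      (hLz.all hU wz zz (hz.ne F.hwe) hy.mem hy.cw.symm h (pz.mem b)).symm
    exact (hLy.all hU wy yy (hy.ne F.hwe) (pz.mem b).1 cwz.symm h1 (py.mem a)).symm

theorem lab_unique {y z : G} (hy : InP D w e y) (hz : InP D w e z) {a b : F4}
    (h : p y a = p z b) : y = z ∧ a = b := by
  have hLy := isLine_Ln F.hw hy.mem (hy.ne F.hwe) hy.cw
  have hLz := isLine_Ln F.hw hz.mem (hz.ne F.hwe) hz.cw
  have py := F.lab y hy
  have pz := F.lab z hz
  have hL : Ln D w y = Ln D w z := hLy.eq_of_two hU hLz (left_mem F.hw) (py.mem a)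
    (left_mem F.hw) (by rw [h]; exact pz.mem b) (py.ne a).symm
  have hyz : y = z := by
    by_contra hne
    apply F.hwe
    have yz : y ∈ Ln D w z := by rw [← hL]; exact right_mem hy.mem
    exact (hLz.all hU yz (right_mem hz.mem) hne F.he hy.ce hz.ce (left_mem F.hw)).symm
  subst hyz
  exact ⟨rfl, py.inj h⟩

/-- every point commuting with `w` is labelled -/
theorem exists_label {d : G} (hd : d ∈ D) (hwd : Commute w d) (hne : d ≠ w) :
    ∃ y, InP D w e y ∧ ∃ a, p y a = d := by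
  have hL := isLine_Ln F.hw hd hne.symm hwd
  obtain ⟨y, hy, hey⟩ := hL.one hU F.he
  have hyw : y ≠ w := by
    rintro rfl
    exact F.hwe hey.symm
  have hyP : InP D w e y := ⟨hy.1, hL.comm (left_mem F.hw) hy, hey⟩
  refine ⟨y, hyP, ?_⟩
  have hL2 : Ln D w y = Ln D w d := hL.eq hU (left_mem F.hw) hy hyw.symm
  exact (F.lab y hyP).surj d (by rw [hL2]; exact right_mem hd) hne

end Geo

section Psi

variable {w e : G} {p : G → F4 → G} {V : Type*} [AddCommGroup V] [Module F4 V]
  {h : V → V → F4} {x : G → V}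

/-- the vector attached to a point -/
def R (S : GramSp D w e p V h x) (hU : UPolar D) (F : Fam D w e p)
    (κ : Nsub D w e p → F4) (d : G) (v : F4 × V × F4) : Prop :=
  (d = w ∧ v = (1, 0, 0)) ∨
  (∃ y a, InP D w e y ∧ d = p y a ∧ v = (a ^ 2, x y, 0)) ∨
  (∃ g : Nsub D w e p, d = g * e * (g : G)⁻¹ ∧ v = (κ g⁻¹, mu S hU F g, 1))

variable (S : GramSp D w e p V h x) (hU : UPolar D) (F : Fam D w e p) (Q : Reg D w e p)
  (κ : Nsub D w e p → F4)

theorem form_def (u v : F4 × V × F4) :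
    totalForm h u v = u.1 * v.2.2 ^ 2 + u.2.2 * v.1 ^ 2 + h u.2.1 v.2.1 := rfl

theorem form_zero_symm (H : HermSp F4 V h) (u v : F4 × V × F4) :
    totalForm h u v = 0 ↔ totalForm h v u = 0 := by
  have HT := total_hermSp (F := F4) rfl H
  rw [HT.swap v u, sq_eq_zero]

include Q in
theorem exists_R {d : G} (hd : d ∈ D) : ∃ v, R S hU F κ d v := by
  by_cases h1 : d = w
  · exact ⟨_, Or.inl ⟨h1, rfl⟩⟩
  by_cases h2 : Commute w d
  · obtain ⟨y, hy, a, ha⟩ := exists_label hU F hd h2 h1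
    exact ⟨_, Or.inr (Or.inl ⟨y, a, hy, ha.symm, rfl⟩)⟩
  · obtain ⟨g, hg, hgd⟩ := Q.trans d hd h2
    exact ⟨_, Or.inr (Or.inr ⟨⟨g, hg⟩, hgd.symm, rfl⟩)⟩

include hU F in
theorem not_comm_conj (g : Nsub D w e p) : ¬ Commute w (g * e * (g : G)⁻¹) := by
  intro hc
  apply F.hwe
  have h1 := (comm_w_N hU F g.2).eq
  have h2 : g * w * (g : G)⁻¹ = w := by rw [← h1, mul_inv_cancel_right]
  have hc' : Commute (g * w * (g : G)⁻¹) (g * e * (g : G)⁻¹) := by rw [h2]; exact hc
  exact (FData.commute_conj_gen _ _ _).1 hc'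

include Q in
theorem R_unique {d : G} {v v' : F4 × V × F4} (h1 : R S hU F κ d v) (h2 : R S hU F κ d v') :
    v = v' := by
  rcases h1 with ⟨a1, b1⟩ | ⟨y, a, hy, a1, b1⟩ | ⟨g, a1, b1⟩
  · rcases h2 with ⟨a2, b2⟩ | ⟨z, b, hz, a2, b2⟩ | ⟨k, a2, b2⟩
    · rw [b1, b2]
    · exact absurd (a2.symm.trans a1) ((F.lab z hz).ne b)
    · exfalso
      apply not_comm_conj hU F k
      rw [← a2, a1]
  · rcases h2 with ⟨a2, b2⟩ | ⟨z, b, hz, a2, b2⟩ | ⟨k, a2, b2⟩
    · exact absurd (a1.symm.trans a2) ((F.lab y hy).ne a)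
    · obtain ⟨rfl, rfl⟩ := lab_unique hU F hy hz (a1.symm.trans a2)
      rw [b1, b2]
    · exfalso
      apply not_comm_conj hU F k
      rw [← a2, a1]
      exact lab_comm_w hU F.hw hy.mem (hy.ne F.hwe) hy.cw (F.lab y hy) a
  · rcases h2 with ⟨a2, b2⟩ | ⟨z, b, hz, a2, b2⟩ | ⟨k, a2, b2⟩
    · exfalso
      apply not_comm_conj hU F g
      rw [← a1, a2]
    · exfalso
      apply not_comm_conj hU F g
      rw [← a1, a2]
      exact lab_comm_w hU F.hw hz.mem (hz.ne F.hwe) hz.cw (F.lab z hz) b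
    · have h3 : ((k⁻¹ * g : Nsub D w e p) : G) = 1 := by
        apply Q.free _ (k⁻¹ * g).2
        have h4 : (g : G) * e * (g : G)⁻¹ = k * e * (k : G)⁻¹ := a1.symm.trans a2
        show (k : G)⁻¹ * g * e * ((k : G)⁻¹ * g)⁻¹ = e
        calc (k : G)⁻¹ * g * e * ((k : G)⁻¹ * g)⁻¹ = (k : G)⁻¹ * (g * e * (g : G)⁻¹) * k := by
              group
          _ = e := by rw [h4]; group
      have h5 : k⁻¹ * g = 1 := Subtype.ext h3
      have h6 : g = k := by
        have := congrArg (fun t => k * t) h5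
        simpa using this
      rw [b1, b2, h6]

/-- the properties of `κ` -/
structure Kap (κ : Nsub D w e p → F4) : Prop where
  mul : ∀ a b, κ (a * b) = κ a + κ b + h (mu S hU F a) (mu S hU F b)
  tr : ∀ a, κ a + κ a ^ 2 = h (mu S hU F a) (mu S hU F a)
  w1 : κ ⟨w, w_mem⟩ = 1
  good : ∀ a : Nsub D w e p, κ a = 0 ↔ Commute ((a : G) * e * (a : G)⁻¹) e

variable {κ}

theorem Kap.inv (K : Kap S hU F κ) (a : Nsub D w e p) : κ a⁻¹ = κ a ^ 2 := by
  have h1 : κ 1 = 0 := by
    rw [K.good]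
    show Commute ((1 : G) * e * (1 : G)⁻¹) e
    rw [one_mul, inv_one, mul_one]
  have h2 := K.mul a⁻¹ a
  rw [inv_mul_cancel, h1, mu_inv, ← K.tr a] at h2
  have key : ∀ s t : F4, 0 = s + t + (t + t ^ 2) → s = t ^ 2 := by decide
  exact key _ _ h2

include Q in
/-- orthogonality is commutation -/
theorem R_comm (K : Kap S hU F κ) {d d' : G} {v v' : F4 × V × F4} (h1 : R S hU F κ d v)
    (h2 : R S hU F κ d' v') : Commute d d' ↔ totalForm h v v' = 0 := by
  have H := S.herm
  -- the three mixed cases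
  have mixed1 : ∀ (y : G) (a : F4), InP D w e y →
      (Commute w (p y a) ↔ totalForm h (1, 0, 0) (a ^ 2, x y, 0) = 0) := by
    intro y a hy
    refine iff_of_true (lab_comm_w hU F.hw hy.mem (hy.ne F.hwe) hy.cw (F.lab y hy) a) ?_
    rw [form_def]
    show 1 * (0 : F4) ^ 2 + 0 * (a ^ 2) ^ 2 + h 0 (x y) = 0
    rw [zero_left H, zero_mul, (sq_eq_zero 0).2 rfl, mul_zero, add_zero, add_zero]
  have mixed2 : ∀ g : Nsub D w e p,
      (Commute w (g * e * (g : G)⁻¹) ↔
        totalForm h (1, 0, 0) (κ g⁻¹, mu S hU F g, 1) = 0) := by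
    intro g
    refine iff_of_false (not_comm_conj hU F g) ?_
    rw [form_def]
    show ¬ (1 * (1 : F4) ^ 2 + 0 * (κ g⁻¹) ^ 2 + h 0 (mu S hU F g) = 0)
    rw [zero_left H, zero_mul, add_zero, add_zero]
    decide
  have mixed3 : ∀ (y : G) (a : F4) (g : Nsub D w e p), InP D w e y →
      (Commute (p y a) (g * e * (g : G)⁻¹) ↔
        totalForm h (a ^ 2, x y, 0) (κ g⁻¹, mu S hU F g, 1) = 0) := by
    intro y a g hy
    have e1 : totalForm h (a ^ 2, x y, 0) (κ g⁻¹, mu S hU F g, 1)
        = (a + phi p y (g : G)) ^ 2 := by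
      rw [form_def]
      show a ^ 2 * (1 : F4) ^ 2 + 0 * (κ g⁻¹) ^ 2 + h (x y) (mu S hU F g) = _
      rw [H.swap (mu S hU F g) (x y), h_mu S hU F g hy, zero_mul, add_zero, sq_add]
      rw [show (1 : F4) ^ 2 = 1 by decide, mul_one]
    rw [e1, sq_eq_zero]
    have t := (tr_N hU F g.2 hy).inv a
    rw [inv_inv] at t
    have e2 : Commute (p y a) (g * e * (g : G)⁻¹) ↔ Commute ((g : G)⁻¹ * p y a * g) e := by
      have := FData.commute_conj_gen (g : G) ((g : G)⁻¹ * p y a * g) e
      rw [← this]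
      have e3 : (g : G) * ((g : G)⁻¹ * p y a * g) * (g : G)⁻¹ = p y a := by group
      rw [e3]
    rw [e2, t]
    constructor
    · intro hc
      by_contra hne
      exact Good.lab_not_comm_e hU F hy hne hc
    · intro h0
      rw [h0, (F.lab y hy).zero]
      exact hy.ce.symm
  rcases h1 with ⟨a1, b1⟩ | ⟨y, a, hy, a1, b1⟩ | ⟨g, a1, b1⟩
  · rcases h2 with ⟨a2, b2⟩ | ⟨z, b, hz, a2, b2⟩ | ⟨k, a2, b2⟩
    · rw [a1, a2, b1, b2]
      refine iff_of_true (Commute.refl w) ?_
      rw [form_def]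
      show 1 * (0 : F4) ^ 2 + 0 * (1 : F4) ^ 2 + h 0 0 = 0
      rw [zero_left H]
      decide
    · rw [a1, a2, b1, b2]; exact mixed1 z b hz
    · rw [a1, a2, b1, b2]; exact mixed2 k
  · rcases h2 with ⟨a2, b2⟩ | ⟨z, b, hz, a2, b2⟩ | ⟨k, a2, b2⟩
    · rw [a1, a2, b1, b2, Commute.symm_iff, form_zero_symm H]; exact mixed1 y a hy
    · rw [a1, a2, b1, b2, lab_comm_iff hU F hy hz, ← h_eq_zero S hU F hy hz, form_def]
      show _ ↔ a ^ 2 * (0 : F4) ^ 2 + 0 * (b ^ 2) ^ 2 + h (x y) (x z) = 0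
      rw [zero_mul, (sq_eq_zero 0).2 rfl, mul_zero, zero_add, zero_add]
    · rw [a1, a2, b1, b2]; exact mixed3 y a k hy
  · rcases h2 with ⟨a2, b2⟩ | ⟨z, b, hz, a2, b2⟩ | ⟨k, a2, b2⟩
    · rw [a1, a2, b1, b2, Commute.symm_iff, form_zero_symm H]; exact mixed2 g
    · rw [a1, a2, b1, b2, Commute.symm_iff, form_zero_symm H]; exact mixed3 z b g hz
    · rw [a1, a2, b1, b2]
      have e1 : totalForm h (κ g⁻¹, mu S hU F g, 1) (κ k⁻¹, mu S hU F k, 1)
          = κ (g⁻¹ * k) := by
        rw [form_def]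
        show κ g⁻¹ * (1 : F4) ^ 2 + 1 * (κ k⁻¹) ^ 2 + h (mu S hU F g) (mu S hU F k) = _
        rw [K.mul, mu_inv, K.inv S hU F k, sq_sq, show (1 : F4) ^ 2 = 1 by decide, mul_one,
          one_mul]
      rw [e1, K.good]
      have e2 := FData.commute_conj_gen (g : G) (((g⁻¹ * k : Nsub D w e p) : G) * e *
        (((g⁻¹ * k : Nsub D w e p) : G))⁻¹) e
      rw [← e2]
      have e3 : (g : G) * (((g⁻¹ * k : Nsub D w e p) : G) * e *
        (((g⁻¹ * k : Nsub D w e p) : G))⁻¹) * (g : G)⁻¹ = k * e * (k : G)⁻¹ := by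
        show (g : G) * (((g : G)⁻¹ * k) * e * ((g : G)⁻¹ * k)⁻¹) * (g : G)⁻¹ = _
        group
      rw [e3, Commute.symm_iff]

theorem R_ne_zero {d : G} {v : F4 × V × F4} (h1 : R S hU F κ d v) : v ≠ 0 := by
  rcases h1 with ⟨a1, b1⟩ | ⟨y, a, hy, a1, b1⟩ | ⟨g, a1, b1⟩
  · rw [b1]
    intro h0
    have : (1 : F4) = 0 := congrArg (fun t : F4 × V × F4 => t.1) h0
    exact one_ne_zero this
  · rw [b1]
    intro h0
    have : x y = 0 := congrArg (fun t : F4 × V × F4 => t.2.1) h0
    exact x_ne_zero S hU F hy this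
  · rw [b1]
    intro h0
    have : (1 : F4) = 0 := congrArg (fun t : F4 × V × F4 => t.2.2) h0
    exact one_ne_zero this

include S hU F Q in
/-- every isotropic vector of `M` has a good preimage -/
theorem exists_good [Finite G] {m : V} (hm : h m m = 0) :
    ∃ a : Nsub D w e p, mu S hU F a = m ∧ Commute ((a : G) * e * (a : G)⁻¹) e := by
  obtain ⟨a, ha⟩ := mu_surjective S hU F m
  have hsq : (a : G) * a = 1 := by
    rcases sq_N S hU F a with ⟨-, h1⟩ | ⟨h1, -⟩
    · exact h1
    · rw [ha, hm] at h1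
      exact absurd h1.symm one_ne_zero
  rcases Good.invol hU F Q.free Q.free' a.2 hsq with ⟨z, hz, u, hu⟩ | ⟨z, hz, u, hu⟩
  · refine ⟨a, ha, ?_⟩
    rw [hu]
    exact Good.good_sg hU F hz u
  · refine ⟨⟨w, w_mem⟩ * a, ?_, ?_⟩
    · rw [mu_mul, mu_w, zero_add, ha]
    · show Commute ((w * (a : G)) * e * (w * (a : G))⁻¹) e
      rw [hu]
      exact Good.good_sg hU F hz u

include S hU F Q in
theorem exists_good_sg [Finite G] {m : V} (hm : h m m = 0) :
    ∃ z, InP D w e z ∧ ∃ u : F4, m = u • x z := by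
  obtain ⟨a, ha, hg⟩ := exists_good S hU F Q hm
  obtain ⟨z, hz, u, hu⟩ := (Good.good_iff hU F Q.free a.2).1 hg
  refine ⟨z, hz, u, ?_⟩
  rw [← ha, ← mu_sg S hU F hz u]
  congr 1
  exact Subtype.ext hu

include Q in
/-- surjectivity -/
theorem exists_point [Finite G] (K : Kap S hU F κ) {v : F4 × V × F4} (hv : v ≠ 0)
    (hiso : totalForm h v v = 0) : ∃ d ∈ D, ∃ v', R S hU F κ d v' ∧ ∃ c : F4, v = c • v' := by
  have H := S.herm
  obtain ⟨α, m, γ⟩ := v
  rw [form_def] at hiso
  replace hiso : α * γ ^ 2 + γ * α ^ 2 + h m m = 0 := hiso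
  by_cases hγ : γ = 0
  · subst hγ
    rw [(sq_eq_zero 0).2 rfl, mul_zero, zero_mul, zero_add, zero_add] at hiso
    by_cases hm : m = 0
    · refine ⟨w, F.hw, _, Or.inl ⟨rfl, rfl⟩, α, ?_⟩
      rw [hm, Prod.smul_mk, Prod.smul_mk, smul_zero, smul_zero, smul_eq_mul, mul_one]
    · obtain ⟨z, hz, u, hu⟩ := exists_good_sg S hU F Q hiso
      have hu0 : u ≠ 0 := by
        rintro rfl
        exact hm (by rw [hu, zero_smul])
      have hb : ∃ b : F4, u * b ^ 2 = α := by
        revert hu0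
        clear hu hv
        revert u α
        decide
      obtain ⟨b, hb⟩ := hb
      refine ⟨p z b, ((F.lab z hz).mem b).1, _, Or.inr (Or.inl ⟨z, b, hz, rfl, rfl⟩), u, ?_⟩
      rw [Prod.smul_mk, Prod.smul_mk, smul_zero, smul_eq_mul, hb, hu]
  · have hγ3 : γ * γ ^ 2 = 1 := cube γ hγ
    obtain ⟨g, hg⟩ := mu_surjective S hU F (γ ^ 2 • m)
    have e1 : h (γ ^ 2 • m) (γ ^ 2 • m) = h m m := by
      rw [H.smul_left, H.smul_right]
      generalize h m m = t
      revert hγ
      clear hiso hγ3 hg hv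
      revert γ t
      decide
    have e2 := K.tr g⁻¹
    rw [mu_inv, hg, e1] at e2
    -- `κ g⁻¹` is `γ² α` or `γ² α + 1`
    have e3 : κ g⁻¹ = γ ^ 2 * α ∨ κ g⁻¹ + 1 = γ ^ 2 * α := by
      have key : ∀ s α γ t : F4, γ ≠ 0 → α * γ ^ 2 + γ * α ^ 2 + t = 0 → s + s ^ 2 = t →
          s = γ ^ 2 * α ∨ s + 1 = γ ^ 2 * α := by decide
      exact key _ _ _ _ hγ hiso e2
    have fin : ∀ k : Nsub D w e p, mu S hU F k = γ ^ 2 • m → κ k⁻¹ = γ ^ 2 * α →
        ∃ d ∈ D, ∃ v', R S hU F κ d v' ∧ ∃ c : F4, ((α, m, γ) : F4 × V × F4) = c • v' := by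
      intro k hk hk2
      refine ⟨k * e * (k : G)⁻¹, hU.fd.conj _ _ F.he, _, Or.inr (Or.inr ⟨k, rfl, rfl⟩), γ, ?_⟩
      rw [Prod.smul_mk, Prod.smul_mk, hk, hk2, smul_eq_mul, smul_eq_mul, mul_one, smul_smul, hγ3,
        one_smul, ← mul_assoc, hγ3, one_mul]
    rcases e3 with e3 | e3
    · exact fin g hg e3
    · apply fin (⟨w, w_mem⟩ * g)
      · rw [mu_mul, mu_w, zero_add, hg]
      · have hw1 : (⟨w, w_mem⟩ : Nsub D w e p)⁻¹ = ⟨w, w_mem⟩ :=
          Subtype.ext (hU.fd.inv_eq F.hw)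
        rw [mul_inv_rev, hw1, K.mul, K.w1, mu_w, zero_right H, add_zero, e3]

end Psi

/-! ### The main theorem -/

section Main

variable {w e : G} {p : G → F4 → G} (hU : UPolar D) (F : Fam D w e p)

theorem exists_kap {V : Type*} [AddCommGroup V] [Module F4 V] [FiniteDimensional F4 V]
    {h : V → V → F4} {x : G → V} (S : GramSp D w e p V h x) [Finite G] (Q : Reg D w e p) :
    ∃ κ : Nsub D w e p → F4, Kap S hU F κ := by
  have H := S.herm
  have : Finite V := Module.finite_of_finite F4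
  have hw1 : (⟨w, w_mem⟩ : Nsub D w e p) ≠ 1 := fun h0 =>
    hU.fd.ne_one w F.hw (congrArg Subtype.val h0)
  have hker : ∀ a : Nsub D w e p, mu S hU F a = 0 ↔ a = 1 ∨ a = ⟨w, w_mem⟩ := by
    intro a
    constructor
    · intro ha
      have := Q.ker a a.2 (fun y hy => by rw [← h_mu S hU F a hy, ha, zero_left H])
      rcases this with h1 | h1
      · exact Or.inl (Subtype.ext h1)
      · exact Or.inr (Subtype.ext h1)
    · rintro (rfl | rfl)
      · exact mu_one S hU F
      · exact mu_w S hU F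
  have hcw : ∀ a : Nsub D w e p, a * ⟨w, w_mem⟩ = ⟨w, w_mem⟩ * a := fun a =>
    Subtype.ext (comm_w_N hU F a.2).symm.eq
  obtain ⟨κ, k1, k2, k3, k4⟩ := Fischer920.Kappa.exists_kappa' (F := F4) rfl H
    (⟨w, w_mem⟩ : Nsub D w e p) hw1 (mu S hU F) (mu_mul S hU F) hker
    (fun a ha => by
      rcases sq_N S hU F a with ⟨-, h1⟩ | ⟨h1, -⟩
      · exact Subtype.ext h1
      · rw [ha] at h1; exact absurd h1.symm one_ne_zero)
    (fun a ha => by
      rcases sq_N S hU F a with ⟨h1, -⟩ | ⟨-, h1⟩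
      · exact absurd h1 ha
      · exact Subtype.ext h1)
    (fun a => Commute ((a : G) * e * (a : G)⁻¹) e)
    (fun a ha => by
      obtain ⟨z, hz, u, hu⟩ := (Good.good_iff hU F Q.free a.2).1 ha
      have : mu S hU F a = u • x z := by
        rw [← mu_sg S hU F hz u]
        congr 1
        exact Subtype.ext hu
      rw [this, H.smul_left, H.smul_right, h_self S hU F hz, mul_zero, mul_zero])
    (fun v hv => exists_good S hU F Q hv)
    (fun a ha => by
      rw [hcw]
      exact Good.not_both hU F a.2 ha)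
    (fun a b ha hb hab => by
      obtain ⟨z, hz, u, hu⟩ := (Good.good_iff hU F Q.free a.2).1 ha
      obtain ⟨y, hy, v, hv⟩ := (Good.good_iff hU F Q.free b.2).1 hb
      have hma : mu S hU F a = u • x z := by
        rw [← mu_sg S hU F hz u]
        congr 1
        exact Subtype.ext hu
      have hmb : mu S hU F b = v • x y := by
        rw [← mu_sg S hU F hy v]
        congr 1
        exact Subtype.ext hv
      rw [hma, hmb, H.smul_left, H.smul_right] at hab
      show Commute (((a : G) * b) * e * ((a : G) * b)⁻¹) e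
      by_cases hu0 : u = 0
      · rw [hu, hu0, sg_zero, one_mul]; exact hb
      by_cases hv0 : v = 0
      · rw [hv, hv0, sg_zero, mul_one]; exact ha
      have h0 : h (x z) (x y) = 0 := by
        rcases mul_eq_zero.1 hab with h1 | h1
        · exact absurd h1 hu0
        · rcases mul_eq_zero.1 h1 with h2 | h2
          · exact absurd ((sq_eq_zero v).1 h2) hv0
          · exact h2
      rw [hu, hv]
      exact Good.good_mul hU F hz hy ((h_eq_zero S hU F hz hy).1 h0) u v)
    (fun a b ha hb hab => by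
      obtain ⟨z, hz, u, hu⟩ := (Good.good_iff hU F Q.free a.2).1 ha
      obtain ⟨y, hy, v, hv⟩ := (Good.good_iff hU F Q.free b.2).1 hb
      have hma : mu S hU F a = u • x z := by
        rw [← mu_sg S hU F hz u]
        congr 1
        exact Subtype.ext hu
      have hmb : mu S hU F b = v • x y := by
        rw [← mu_sg S hU F hy v]
        congr 1
        exact Subtype.ext hv
      have hab' := hab
      rw [hma, hmb, H.smul_left, H.smul_right] at hab
      have hu0 : u ≠ 0 := by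
        rintro rfl
        rw [zero_mul] at hab
        exact zero_ne_one hab
      have hv0 : v ≠ 0 := by
        rintro rfl
        rw [(sq_eq_zero 0).2 rfl, zero_mul, mul_zero] at hab
        exact zero_ne_one hab
      have hzy : ¬ Commute z y := by
        intro hc
        rw [(h_eq_zero S hU F hz hy).2 hc, mul_zero, mul_zero] at hab
        exact zero_ne_one hab
      have hnot : ¬ Commute (((a : G) * b) * e * ((a : G) * b)⁻¹) e := by
        rw [hu, hv]
        exact Good.not_good_mul hU F hz hy hzy hu0 hv0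
      have hiso_a : h (mu S hU F a) (mu S hU F a) = 0 := by
        rw [hma, H.smul_left, H.smul_right, h_self S hU F hz, mul_zero, mul_zero]
      have hiso_b : h (mu S hU F b) (mu S hU F b) = 0 := by
        rw [hmb, H.smul_left, H.smul_right, h_self S hU F hy, mul_zero, mul_zero]
      have hiso : h (mu S hU F (a * b)) (mu S hU F (a * b)) = 0 := by
        rw [mu_mul, H.add_left, H.add_right card_F4, H.add_right card_F4, hiso_a, hiso_b, hab',
          H.swap (mu S hU F a) (mu S hU F b), hab']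
        decide
      obtain ⟨c, hc1, hc2⟩ := exists_good S hU F Q hiso
      have hcc : mu S hU F (c * (a * b)⁻¹) = 0 := by
        rw [mu_mul, mu_inv, hc1, two_smul']
      rcases (hker _).1 hcc with h1 | h1
      · exfalso
        apply hnot
        have h2 : c = a * b := mul_inv_eq_one.1 h1
        rw [h2] at hc2
        exact hc2
      · have h2 : c = a * b * ⟨w, w_mem⟩ := by
          rw [hcw]
          exact mul_inv_eq_iff_eq_mul.1 h1
        rw [h2] at hc2
        exact hc2)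
  exact ⟨κ, k1, k2, k3, k4⟩

include hU F in
/-- the dimension of `M` is at least two -/
theorem two_le_finrank {V : Type*} [AddCommGroup V] [Module F4 V] [FiniteDimensional F4 V]
    {h : V → V → F4} {x : G → V} (S : GramSp D w e p V h x) [Finite G] :
    2 ≤ Module.finrank F4 V := by
  have H := S.herm
  obtain ⟨z, hz⟩ := Good.exists_inP hU F
  obtain ⟨y, hy, hyz⟩ := Coherent.exists_not_comm hU F.hw F.he F.hwe hz
  have hli : LinearIndependent F4 ![x z, x y] := by
    rw [LinearIndependent.pair_iff]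
    intro s t hst
    have e1 : h (s • x z + t • x y) (x y) = s * h (x z) (x y) := by
      rw [H.add_left, H.smul_left, H.smul_left, h_self S hU F hy, mul_zero, add_zero]
    have e2 : h (s • x z + t • x y) (x z) = t * h (x y) (x z) := by
      rw [H.add_left, H.smul_left, H.smul_left, h_self S hU F hz, mul_zero, zero_add]
    rw [hst, zero_left H] at e1 e2
    constructor
    · rcases mul_eq_zero.1 e1.symm with h1 | h1
      · exact h1
      · exact absurd ((h_eq_zero S hU F hz hy).1 h1).symm hyz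
    · rcases mul_eq_zero.1 e2.symm with h1 | h1
      · exact h1
      · exact absurd ((h_eq_zero S hU F hy hz).1 h1) hyz
  have := hli.fintype_card_le_finrank
  simpa using this

end Main

/-- the Gram space exists -/
theorem exists_gramSp.{u} {G : Type u} [Group G] {D : Set G} {w e : G} {p : G → F4 → G}
    (hU : UPolar D) (F : Fam D w e p) [Finite G]
    (hlin : ∀ z y, InP D w e z → InP D w e y →
      ∀ u, phi p y (sg w (p z) u) = u * phi p y (sg w (p z) 1)) :
    ∃ (V : Type u) (_ : AddCommGroup V) (_ : Module F4 V) (_ : FiniteDimensional F4 V)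
      (h : V → V → F4) (x : G → V), GramSp D w e p V h x := by
  classical
  have hfin : Finite {y : G // InP D w e y} := inferInstance
  obtain ⟨V, i1, i2, i3, h, x, H, hx, hspan⟩ := exists_gram (P := {y : G // InP D w e y})
    (F := F4) rfl (fun z y => phi p y.1 (sg w (p z.1) 1)) (by
      rintro ⟨z, hz⟩ ⟨y, hy⟩
      show phi p z (sg w (p y) 1) = phi p y (sg w (p z) 1) ^ 2
      by_cases hzy : Commute z y
      · rw [(phi_sg_eq_zero hU F hz hy 1).2 (Or.inr hzy),
          (phi_sg_eq_zero hU F hy hz 1).2 (Or.inr hzy.symm), (sq_eq_zero 0).2 rfl]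
      · have h1 := phi_inverse hU F hz hy hzy 1 _ rfl
        rw [hlin y z hy hz] at h1
        exact eq_sq_of_mul _ _ h1)
  refine ⟨V, i1, i2, i3, h, fun z => if hz : InP D w e z then x ⟨z, hz⟩ else 0, ?_⟩
  refine ⟨H, ?_, ?_, hlin⟩
  · intro z y hz hy
    simp only [dif_pos hz, dif_pos hy]
    exact hx ⟨z, hz⟩ ⟨y, hy⟩
  · rw [eq_top_iff, ← hspan]
    apply Submodule.span_mono
    rintro _ ⟨⟨z, hz⟩, rfl⟩
    exact ⟨z, hz, by simp only [dif_pos hz]⟩


/-- **Recognition of the unitary groups**, modulo the facts about `N`. -/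
theorem exists_equiv_psu_of_reg [Finite G] (hU : UPolar D)
    (hreg : ∀ (w e : G) (p : G → F4 → G), Fam D w e p → Reg D w e p) :
    ∃ n : ℕ, 4 ≤ n ∧ ∃ e : G ≃* PSU n F4 2, ∀ g : G, g ∈ D ↔
      ∃ t : SU n F4 2,
        (((t : Matrix.SpecialLinearGroup (Fin n) F4) : Matrix (Fin n) (Fin n) F4) - 1).rank = 1 ∧
        e g = QuotientGroup.mk t := by
  classical
  obtain ⟨w, hw, -⟩ := hU.ex
  have he : ∃ e ∈ D, ¬ Commute w e := by
    by_contra hcon
    push Not at hcon
    exact hU.fd.ne_one w hw (hU.center w hcon)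
  obtain ⟨e, he, hwe⟩ := he
  obtain ⟨p, F, hlin⟩ := Coherent.exists_coherent hU hw he hwe
  have Q := hreg w e p F
  obtain ⟨V, i1, i2, i3, h, x, S⟩ := exists_gramSp hU F hlin
  obtain ⟨κ, K⟩ := exists_kap hU F S Q
  have hR : ∀ d : G, ∃ v, d ∈ D → R S hU F κ d v := by
    intro d
    by_cases hd : d ∈ D
    · obtain ⟨v, hv⟩ := exists_R S hU F Q κ hd
      exact ⟨v, fun _ => hv⟩
    · exact ⟨0, fun hd' => absurd hd' hd⟩
  choose Ψ hΨ using hR
  have H := S.herm
  have HT : HermSp F4 (F4 × V × F4) (totalForm h) := total_hermSp (F := F4) rfl H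
  have hz : Subgroup.center G = ⊥ := by
    rw [eq_bot_iff]
    intro g hg
    rw [Subgroup.mem_bot]
    apply hU.center
    intro d _
    exact ((Subgroup.mem_center_iff.1 hg) d).symm
  have hcomm : ∀ a ∈ D, ∀ b ∈ D, Commute a b ↔ totalForm h (Ψ a) (Ψ b) = 0 :=
    fun a ha b hb => R_comm S hU F Q K (hΨ a ha) (hΨ b hb)
  have hne : ∀ a ∈ D, Ψ a ≠ 0 := fun a ha => R_ne_zero S hU F (hΨ a ha)
  refine ⟨Module.finrank F4 (F4 × V × F4), ?_, ?_⟩
  · rw [total_finrank]
    have := two_le_finrank hU F S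
    omega
  · refine exists_equiv_psu hU.fd hz ?_ (F := F4) rfl HT rfl ?_ Ψ hne ?_ hcomm ?_ ?_
    · intro a ha b hb hab c hc hzz
      exact hU.hyp a ha b hb hab c hc hzz
    · rw [total_finrank]
      have := two_le_finrank hU F S
      omega
    · intro a ha
      exact (hcomm a ha a ha).1 (Commute.refl a)
    · intro a ha b hb c hab
      apply hU.noTwins a ha b hb
      intro d hd
      rw [hcomm d hd a ha, hcomm d hd b hb, hab, HT.smul_right]
      have hc : c ≠ 0 := by
        rintro rfl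
        apply hne a ha
        rw [hab, zero_smul]
      constructor
      · intro h1
        rcases mul_eq_zero.1 h1 with h2 | h2
        · exact absurd ((sq_eq_zero c).1 h2) hc
        · exact h2
      · intro h1
        rw [h1, mul_zero]
    · intro v hv hiso
      obtain ⟨d, hd, v', hv', c, hc⟩ := exists_point S hU F Q K hv hiso
      refine ⟨d, hd, c, ?_⟩
      rw [R_unique S hU F Q κ (hΨ d hd) hv']
      exact hc

end Cfsg.Agent.Fischer468.Final
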