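import Cfsg.Agent.Fischer468.Lines
import Cfsg.Agent.Fischer468.FieldMaps

set_option autoImplicit false

/-!
# Labels of the points of a line through `w` by the field with four elements, translations
-/

namespace Cfsg.Agent.Fischer468.Labels

open Cfsg Cfsg.Agent.SporadicStructure.FischerSpace Cfsg.Agent.Fischer468.Lines
open Cfsg.Agent.Fischer468.FieldMaps Cfsg.Agent.SporadicA.FieldFour

variable {G : Type*} [Group G] {D : Set G}

/-- `p` labels the points `≠ w` of the line through `w` and `y`, and `y` has label `0`. -/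
structure Lab (D : Set G) (w y : G) (p : F4 → G) : Prop where
  zero : p 0 = y
  inj : Function.Injective p
  mem : ∀ a, p a ∈ Ln D w y
  ne : ∀ a, p a ≠ w
  surj : ∀ z ∈ Ln D w y, z ≠ w → ∃ a, p a = z

/-- the even elements attached to a labelled line -/
def sg (w : G) (p : F4 → G) (u : F4) : G := if u = 0 then 1 else w * p 0 * p u

/-- `g` acts on the labelled line as the translation by `m` -/
def Tr (g : G) (p : F4 → G) (m : F4) : Prop := ∀ a, g * p a * g⁻¹ = p (a + m)

theorem sg_zero (w : G) (p : F4 → G) : sg w p 0 = 1 := if_pos rfl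

theorem sg_of_ne (w : G) (p : F4 → G) {u : F4} (hu : u ≠ 0) : sg w p u = w * p 0 * p u :=
  if_neg hu

section TrLemmas

variable {p : F4 → G}

theorem Tr.one : Tr (1 : G) p 0 := by
  intro a
  rw [one_mul, inv_one, mul_one, add_zero]

theorem Tr.mul {g h : G} {m m' : F4} (hg : Tr g p m) (hh : Tr h p m') : Tr (g * h) p (m + m') := by
  intro a
  calc g * h * p a * (g * h)⁻¹ = g * (h * p a * h⁻¹) * g⁻¹ := by group
    _ = p (a + m' + m) := by rw [hh, hg]
    _ = p (a + (m + m')) := by rw [add_assoc, add_comm m' m]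

theorem Tr.inv {g : G} {m : F4} (hg : Tr g p m) : Tr g⁻¹ p m := by
  intro a
  have h := hg (a + m)
  rw [add_assoc, add_self', add_zero] at h
  rw [← h]
  group

theorem Tr.unique {w y g : G} (hp : Lab D w y p) {m m' : F4} (h : Tr g p m) (h' : Tr g p m') :
    m = m' := by
  have := (h 0).symm.trans (h' 0)
  have := hp.inj this
  rwa [zero_add, zero_add] at this

theorem Tr.of_comm {g : G} (h : ∀ a, Commute g (p a)) : Tr g p 0 := by
  intro a
  rw [add_zero, (h a).eq, mul_inv_cancel_right]

theorem Tr.comm {g : G} (h : Tr g p 0) (a : F4) : Commute g (p a) := by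
  have := h a
  rw [add_zero] at this
  show g * p a = p a * g
  calc g * p a = (g * p a * g⁻¹) * g := by group
    _ = p a * g := by rw [this]

end TrLemmas

section Exist

variable (hU : UPolar D)
include hU

theorem exists_lab {w y : G} (hw : w ∈ D) (hy : y ∈ D) (hne : w ≠ y) (hc : Commute w y) :
    ∃ p : F4 → G, Lab D w y p := by
  obtain ⟨a, b, c, ha, hb, hc', haw, hay, hbw, hby, hcw, hcy, hab, hac, hbc, hall⟩ :=
    exists_enum (hU.card w hw y hy hne hc) (left_mem hw) (right_mem hy) hne
  refine ⟨fun u => F4.casesOn u y a b c, rfl, ?_, ?_, ?_, ?_⟩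
  · intro u v huv
    cases u <;> cases v <;> first | rfl | (exfalso; simp only at huv; first
      | exact hay huv | exact hby huv | exact hcy huv | exact hab huv | exact hac huv
      | exact hbc huv | exact hay huv.symm | exact hby huv.symm | exact hcy huv.symm
      | exact hab huv.symm | exact hac huv.symm | exact hbc huv.symm)
  · intro u
    cases u
    · exact right_mem hy
    · exact ha
    · exact hb
    · exact hc'
  · intro u
    cases u
    · exact hne.symm
    · exact haw
    · exact hbw
    · exact hcw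
  · intro z hz hzw
    rcases hall z hz with h | h | h | h | h
    · exact absurd h hzw
    · exact ⟨F4.z, h.symm⟩
    · exact ⟨F4.o, h.symm⟩
    · exact ⟨F4.w, h.symm⟩
    · exact ⟨F4.v, h.symm⟩

end Exist

/-! ### One labelled line -/

section OneLine

variable {w y : G} {p : F4 → G} (hU : UPolar D) (hw : w ∈ D) (hy : y ∈ D) (hne : w ≠ y)
  (hc : Commute w y) (hp : Lab D w y p)
include hU hw hy hne hc hp

theorem lab_D (a : F4) : p a ∈ D := (hp.mem a).1

theorem lab_comm_w (a : F4) : Commute w (p a) :=
  (isLine_Ln hw hy hne hc).comm (left_mem hw) (hp.mem a)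

theorem lab_comm (a b : F4) : Commute (p a) (p b) :=
  (isLine_Ln hw hy hne hc).comm (hp.mem a) (hp.mem b)

theorem lab_sq (a : F4) : p a * p a = 1 := hU.fd.sq _ (hp.mem a).1

theorem five_lab {u v : F4} (hu : u ≠ 0) (hv : v ≠ 0) (huv : u ≠ v) :
    Five (Ln D w y) w (p 0) (p u) (p v) (p (u + v)) := by
  have i := hp.inj
  exact ⟨left_mem hw, hp.mem _, hp.mem _, hp.mem _, hp.mem _, (hp.ne _).symm, (hp.ne _).symm,
    (hp.ne _).symm, (hp.ne _).symm, fun h => hu (i h).symm, fun h => hv (i h).symm,
    fun h => add_ne _ _ huv (i h).symm, fun h => huv (i h),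
    fun h => add_ne_left u v hv (i h).symm, fun h => add_ne_right u v hu (i h).symm⟩

theorem prod_lab {u v : F4} (hu : u ≠ 0) (hv : v ≠ 0) (huv : u ≠ v) :
    w * p 0 * p u * p v * p (u + v) = 1 :=
  prod_eq_one hU (isLine_Ln hw hy hne hc) (five_lab hU hw hy hne hc hp hu hv huv)

theorem lab_mul {u v : F4} (hu : u ≠ 0) (hv : v ≠ 0) (huv : u ≠ v) :
    p u * p v = w * p 0 * p (u + v) := by
  have h1 := prod_lab hU hw hy hne hc hp hu hv huv
  have sw := hU.fd.sq w hw
  have s0 := lab_sq hU hw hy hne hc hp 0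
  have c0 := (lab_comm_w hU hw hy hne hc hp 0).eq
  have s3 := lab_sq hU hw hy hne hc hp (u + v)
  calc p u * p v = (p 0 * (w * w) * p 0) * (p u * p v) * (p (u + v) * p (u + v)) := by
        rw [sw, mul_one, s0, one_mul, s3, mul_one]
    _ = p 0 * w * (w * p 0 * p u * p v * p (u + v)) * p (u + v) := by simp only [mul_assoc]
    _ = w * p 0 * p (u + v) := by rw [h1, mul_one, ← c0]

theorem sg_mem_closure (u : F4) : ∀ g : G, Commute g w → (∀ a, Commute g (p a)) →
    Commute g (sg w p u) := by
  intro g h1 h2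
  by_cases hu : u = 0
  · rw [hu, sg_zero]; exact Commute.one_right g
  · rw [sg_of_ne w p hu]; exact (h1.mul_right (h2 0)).mul_right (h2 u)

theorem sg_comm_w (u : F4) : Commute w (sg w p u) :=
  sg_mem_closure hU hw hy hne hc hp u w (Commute.refl w) (lab_comm_w hU hw hy hne hc hp)

theorem sg_comm_lab (u a : F4) : Commute (p a) (sg w p u) :=
  sg_mem_closure hU hw hy hne hc hp u (p a) (lab_comm_w hU hw hy hne hc hp a).symm
    (lab_comm hU hw hy hne hc hp a)

theorem sg_comm_sg (u v : F4) : Commute (sg w p u) (sg w p v) :=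
  sg_mem_closure hU hw hy hne hc hp v _ (sg_comm_w hU hw hy hne hc hp u).symm
    (fun a => (sg_comm_lab hU hw hy hne hc hp u a).symm)

theorem sg_sq (u : F4) : sg w p u * sg w p u = 1 := by
  by_cases hu : u = 0
  · rw [hu, sg_zero, mul_one]
  · rw [sg_of_ne w p hu]
    have sw := hU.fd.sq w hw
    have s0 := lab_sq hU hw hy hne hc hp 0
    have su := lab_sq hU hw hy hne hc hp u
    have c0 := (lab_comm_w hU hw hy hne hc hp 0).eq
    have cu := (lab_comm_w hU hw hy hne hc hp u).eq
    have c1 := (lab_comm hU hw hy hne hc hp 0 u).eq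
    calc w * p 0 * p u * (w * p 0 * p u) = w * p 0 * (p u * w) * p 0 * p u := by
          simp only [mul_assoc]
      _ = w * (p 0 * w) * p u * p 0 * p u := by rw [← cu]; simp only [mul_assoc]
      _ = (w * w) * p 0 * (p u * p 0) * p u := by rw [← c0]; simp only [mul_assoc]
      _ = (p 0 * p 0) * (p u * p u) := by rw [sw, one_mul, ← c1]; simp only [mul_assoc]
      _ = 1 := by rw [s0, su, mul_one]

theorem sg_add (u v : F4) : sg w p (u + v) = sg w p u * sg w p v := by
  by_cases hu : u = 0
  · rw [hu, zero_add, sg_zero, one_mul]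
  by_cases hv : v = 0
  · rw [hv, add_zero, sg_zero, mul_one]
  by_cases huv : u = v
  · rw [huv, add_self', sg_zero, sg_sq hU hw hy hne hc hp]
  rw [sg_of_ne w p (add_ne _ _ huv), ← lab_mul hU hw hy hne hc hp hu hv huv, sg_of_ne w p hu,
    sg_of_ne w p hv]
  have sw := hU.fd.sq w hw
  have s0 := lab_sq hU hw hy hne hc hp 0
  have c0 := (lab_comm_w hU hw hy hne hc hp 0).eq
  have cu := (lab_comm_w hU hw hy hne hc hp u).eq
  have c1 := (lab_comm hU hw hy hne hc hp 0 u).eq
  symm
  calc w * p 0 * p u * (w * p 0 * p v) = w * p 0 * (p u * w) * p 0 * p v := by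
        simp only [mul_assoc]
    _ = w * (p 0 * w) * p u * p 0 * p v := by rw [← cu]; simp only [mul_assoc]
    _ = (w * w) * p 0 * (p u * p 0) * p v := by rw [← c0]; simp only [mul_assoc]
    _ = (p 0 * p 0) * (p u * p v) := by rw [sw, one_mul, ← c1]; simp only [mul_assoc]
    _ = p u * p v := by rw [s0, one_mul]

/-- the product of two labelled points, `a ≠ b` -/
theorem lab_mul_eq_sg {a b : F4} : ∃ n : G, (n = 1 ∨ n = w) ∧ p a * p b = n * sg w p (a + b) := by
  have sw := hU.fd.sq w hw
  by_cases hab : a = b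
  · subst hab
    exact ⟨1, Or.inl rfl, by rw [lab_sq hU hw hy hne hc hp, add_self', sg_zero, one_mul]⟩
  by_cases ha : a = 0
  · subst ha
    refine ⟨w, Or.inr rfl, ?_⟩
    rw [zero_add, sg_of_ne w p (Ne.symm hab), ← mul_assoc, ← mul_assoc, sw, one_mul]
  by_cases hb : b = 0
  · subst hb
    refine ⟨w, Or.inr rfl, ?_⟩
    rw [add_zero, sg_of_ne w p ha, ← mul_assoc, ← mul_assoc, sw, one_mul,
      (lab_comm hU hw hy hne hc hp a 0).eq]
  · exact ⟨1, Or.inl rfl, by
      rw [lab_mul hU hw hy hne hc hp ha hb hab, one_mul, sg_of_ne w p (add_ne _ _ hab)]⟩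

/-- conjugation by an element acting as a translation -/
theorem conj_sg {g : G} (hgw : Commute g w) {m : F4} (hg : Tr g p m) (u : F4) :
    g * sg w p u * g⁻¹ = (if u = 0 ∨ m = 0 ∨ m = u then 1 else w) * sg w p u := by
  by_cases hu : u = 0
  · rw [hu, sg_zero, if_pos (Or.inl rfl), mul_one, mul_inv_cancel, one_mul]
  have e1 : g * sg w p u * g⁻¹ = w * p m * p (u + m) := by
    rw [sg_of_ne w p hu]
    have a1 := hg 0
    have a2 := hg u
    rw [zero_add] at a1
    have a3 : g * w * g⁻¹ = w := by rw [hgw.eq, mul_inv_cancel_right]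
    calc g * (w * p 0 * p u) * g⁻¹ = (g * w * g⁻¹) * (g * p 0 * g⁻¹) * (g * p u * g⁻¹) := by
          group
      _ = w * p m * p (u + m) := by rw [a1, a2, a3]
  by_cases hm : m = 0
  · rw [if_pos (Or.inr (Or.inl hm)), one_mul, e1, hm, add_zero, sg_of_ne w p hu]
  by_cases hmu : m = u
  · rw [if_pos (Or.inr (Or.inr hmu)), one_mul, e1, hmu, add_self', sg_of_ne w p hu, mul_assoc,
      mul_assoc, (lab_comm hU hw hy hne hc hp u 0).eq]
  · rw [if_neg (by
      rintro (h | h | h)
      · exact hu h
      · exact hm h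
      · exact hmu h), e1, mul_assoc,
      lab_mul hU hw hy hne hc hp hm (add_ne u m (Ne.symm hmu)) (fun h => add_ne_right u m hu h.symm)]
    have e2 : m + (u + m) = u := by rw [add_left_comm, add_self', add_zero]
    rw [e2, sg_of_ne w p hu]

end OneLine

/-! ### Action of one line on another -/

section TwoLines

variable (hU : UPolar D)
include hU

/-- A product of two points `≠ w` of a line `M` through `w` acts on the line through `w` and `y`
as a translation, which is trivial iff `y` commutes with `M`. -/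
theorem exists_tr {w y a b : G} {p : F4 → G} {M : Set G} (hM : IsLine D M) (hwM : w ∈ M)
    (ha : a ∈ M) (hb : b ∈ M) (haw : a ≠ w) (hbw : b ≠ w) (hab : a ≠ b) (hy : y ∈ D)
    (hne : w ≠ y) (hc : Commute w y) (hp : Lab D w y p) :
    ∃ m, Tr (a * b) p m ∧ (m = 0 ↔ Commute a y) := by
  have h := hU.fd
  have hw := hM.mem_D hwM
  have haD := hM.mem_D ha
  have hbD := hM.mem_D hb
  have hL := isLine_Ln hw hy hne hc
  have hyL : y ∈ Ln D w y := right_mem hy
  have hwL : w ∈ Ln D w y := left_mem hw
  have sa := h.sq a haD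
  have sb := h.sq b hbD
  have hinv : (a * b)⁻¹ = b * a := by
    rw [mul_inv_rev, h.inv_eq haD, h.inv_eq hbD]
  by_cases hay : Commute a y
  · refine ⟨0, ?_, iff_of_true rfl hay⟩
    apply Tr.of_comm
    intro c
    have hac : Commute a (p c) :=
      hL.all hU hwL hyL hne haD (hM.comm ha hwM) hay (hp.mem c)
    have hby : Commute y b := hM.all hU hwM ha haw.symm hy hc.symm hay.symm hb
    have hbc : Commute b (p c) := hL.all hU hwL hyL hne hbD (hM.comm hb hwM) hby.symm (hp.mem c)
    exact hac.mul_left hbc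
  · have key : ∀ c, ¬ Commute a (p c) := by
      intro c hac
      exact hay (hL.all hU (hp.mem c) hwL (hp.ne c) haD hac (hM.comm ha hwM) hyL)
    have keyb : ∀ c, ¬ Commute b (p c) := by
      intro c hbc
      exact key c (hM.all hU hb hwM hbw (hp.mem c).1 hbc.symm
        (hL.comm (hp.mem c) hwL) ha).symm
    have hτ : ∀ c, ∃ t, p t = a * b * p c * (b * a) := by
      intro c
      have hcD := (hp.mem c).1
      have hwc : Commute w (p c) := hL.comm hwL (hp.mem c)
      have h1 := hM.conj_two_mem hU hwM ha hb haw hbw hcD hwc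
      have h2 : Ln D w (p c) = Ln D w y := hL.eq hU hwL (hp.mem c) (hp.ne c).symm
      rw [h2] at h1
      apply hp.surj _ h1
      intro h3
      apply key c
      have h4 : p c = w := by
        have hwa := (hM.comm hwM ha).eq
        have hwb := (hM.comm hwM hb).eq
        calc p c = (b * (a * a) * b) * p c * (b * (a * a) * b) := by
              rw [sa, mul_one, sb, one_mul, mul_one]
          _ = b * a * (a * b * p c * (b * a)) * (a * b) := by simp only [mul_assoc]
          _ = b * a * w * (a * b) := by rw [h3]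
          _ = b * (a * w) * a * b := by simp only [mul_assoc]
          _ = (b * w) * (a * a) * b := by rw [← hwa]; simp only [mul_assoc]
          _ = w := by rw [sa, mul_one, ← hwb, mul_assoc, sb, mul_one]
      exact absurd h4 (hp.ne c)
    choose τ hτ using hτ
    have hfix : ∀ c, τ c ≠ c := by
      intro c hc'
      have := hτ c
      rw [hc'] at this
      exact conj_two_ne h haD hbD (hp.mem c).1 hab (key c) (keyb c) this.symm
    have hinvol : ∀ c, τ (τ c) = c := by
      intro c
      apply hp.inj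
      rw [hτ, hτ]
      have hcab := (hM.comm ha hb).eq
      calc a * b * (a * b * p c * (b * a)) * (b * a)
          = (a * b) * (a * b) * p c * ((b * a) * (b * a)) := by simp only [mul_assoc]
        _ = (a * b) * (b * a) * p c * ((b * a) * (a * b)) := by rw [hcab]
        _ = (a * (b * b) * a) * p c * (b * (a * a) * b) := by simp only [mul_assoc]
        _ = p c := by rw [sb, mul_one, sa, one_mul, mul_one, sb, mul_one]
    have hm0 : τ 0 ≠ 0 := hfix 0
    have htr : ∀ c, τ c = c + τ 0 := by
      intro c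
      by_cases hc0 : c = 0
      · rw [hc0, zero_add]
      by_cases hcm : c = τ 0
      · rw [hcm, hinvol, add_self']
      · apply fourth (τ 0) c (τ c) hm0 hc0 hcm
        · intro h1
          apply hcm
          rw [← h1, hinvol]
        · intro h1
          apply hc0
          have := congrArg τ h1
          rwa [hinvol, hinvol] at this
        · exact hfix c
    refine ⟨τ 0, ?_, iff_of_false hm0 hay⟩
    intro c
    rw [← htr, hτ, hinv]

theorem tr_w {w y : G} {p : F4 → G} (hw : w ∈ D) (hy : y ∈ D) (hne : w ≠ y) (hc : Commute w y)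
    (hp : Lab D w y p) : Tr w p 0 := Tr.of_comm (lab_comm_w hU hw hy hne hc hp)

/-- action of `sg w q u` -/
theorem exists_tr_sg {w z y : G} {q p : F4 → G} (hw : w ∈ D) (hz : z ∈ D) (hnz : w ≠ z)
    (hcz : Commute w z) (hq : Lab D w z q) (hy : y ∈ D) (hny : w ≠ y) (hcy : Commute w y)
    (hp : Lab D w y p) (u : F4) :
    ∃ m, Tr (sg w q u) p m ∧ (m = 0 ↔ (u = 0 ∨ Commute z y)) := by
  by_cases hu : u = 0
  · refine ⟨0, ?_, iff_of_true rfl (Or.inl hu)⟩
    rw [hu, sg_zero]
    exact Tr.one
  · obtain ⟨m, h1, h2⟩ := exists_tr hU (isLine_Ln hw hz hnz hcz) (left_mem hw) (hq.mem 0)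
      (hq.mem u) (hq.ne 0) (hq.ne u) (fun h => hu (hq.inj h).symm) hy hny hcy hp
    refine ⟨m, ?_, ?_⟩
    · rw [sg_of_ne w q hu, mul_assoc]
      have := (tr_w hU hw hy hny hcy hp).mul h1
      rwa [zero_add] at this
    · rw [h2, hq.zero]
      constructor
      · exact Or.inr
      · rintro (h | h)
        · exact absurd h hu
        · exact h

end TwoLines

end Cfsg.Agent.Fischer468.Labels
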