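import Cfsg.Agent.SporadicStructure.FischerSpace

set_option autoImplicit false

/-!
# Polar spaces of 3-transpositions whose lines have five points: lines
-/

namespace Cfsg.Agent.Fischer468.Lines

open Cfsg Cfsg.Agent.SporadicStructure.FischerSpace

variable {G : Type*} [Group G] {D : Set G}

/-- The line through two commuting members of `D`. -/
def Ln (D : Set G) (x y : G) : Set G :=
  {z | z ∈ D ∧ ∀ d ∈ D, Commute d x → Commute d y → Commute d z}

/-- A class of 3-transpositions which is a polar space with lines of five points. -/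
structure UPolar (D : Set G) : Prop where
  fd : FData D
  center : ∀ g : G, (∀ d ∈ D, Commute g d) → g = 1
  noTwins : ∀ x ∈ D, ∀ y ∈ D, (∀ d ∈ D, Commute d x ↔ Commute d y) → x = y
  card : ∀ x ∈ D, ∀ y ∈ D, x ≠ y → Commute x y → (Ln D x y).ncard = 5
  one : ∀ x ∈ D, ∀ y ∈ D, x ≠ y → Commute x y → ∀ d ∈ D, ∃ z ∈ Ln D x y, Commute d z
  ex : ∃ x ∈ D, ∃ y ∈ D, x ≠ y ∧ Commute x y
  hyp : ∀ x ∈ D, ∀ y ∈ D, ¬ Commute x y → ∀ z ∈ D,
    (∀ d ∈ D, Commute d x → Commute d y → Commute d z) → z = x ∨ z = y ∨ z = x * y * x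

/-! ### Identities for three members -/

section Ids

variable (h : FData D)
include h

/-- `a, b` commute, `x` commutes with neither: then `x` and `(ab) x (ab)⁻¹` commute. -/
theorem comm_conj_two {a b x : G} (ha : a ∈ D) (hb : b ∈ D) (hx : x ∈ D) (hab : Commute a b)
    (hax : ¬ Commute a x) (hbx : ¬ Commute b x) : Commute (a * b * x * (b * a)) x := by
  have h1 := h.braid a ha x hx hax
  have h2 := h.braid b hb x hx hbx
  have hab' : a * b = b * a := hab.eq
  have sx := h.sq x hx
  have sa := h.sq a ha
  have sb := h.sq b hb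
  show a * b * x * (b * a) * x = x * (a * b * x * (b * a))
  calc a * b * x * (b * a) * x = a * (b * x * b) * a * x := by simp only [mul_assoc]
    _ = a * (x * b * x) * a * x := by rw [h2]
    _ = a * x * b * (x * a * x) := by simp only [mul_assoc]
    _ = a * x * b * (a * x * a) := by rw [h1]
    _ = a * x * (b * a) * x * a := by simp only [mul_assoc]
    _ = a * x * (a * b) * x * a := by rw [hab']
    _ = (a * x * a) * (b * x) * a := by simp only [mul_assoc]
    _ = (x * a * x) * (b * x) * a := by rw [h1]
    _ = x * a * (x * b * x) * a := by simp only [mul_assoc]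
    _ = x * a * (b * x * b) * a := by rw [h2]
    _ = x * (a * b * x * (b * a)) := by simp only [mul_assoc]

/-- If `x` commutes with neither `a` nor `b` and `a x a = b x b` then `a = b`. -/
theorem eq_of_conj_eq {a b x : G} (ha : a ∈ D) (hb : b ∈ D) (hx : x ∈ D)
    (hax : ¬ Commute a x) (hbx : ¬ Commute b x) (he : a * x * a = b * x * b) : a = b := by
  have h1 := h.braid a ha x hx hax
  have h2 := h.braid b hb x hx hbx
  rw [h1, h2] at he
  have h3 : x * a = x * b := mul_right_cancel he
  exact mul_left_cancel h3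

theorem conj_two_ne {a b x : G} (ha : a ∈ D) (hb : b ∈ D) (hx : x ∈ D) (hne : a ≠ b)
    (hax : ¬ Commute a x) (hbx : ¬ Commute b x) : a * b * x * (b * a) ≠ x := by
  intro he
  apply hne
  apply eq_of_conj_eq h ha hb hx hax hbx
  have sa := h.sq a ha
  calc a * x * a = a * (a * b * x * (b * a)) * a := by rw [he]
    _ = (a * a) * (b * x * b) * (a * a) := by simp only [mul_assoc]
    _ = b * x * b := by rw [sa, one_mul, mul_one]

theorem mem_conj_two {a b x : G} (ha : a ∈ D) (hb : b ∈ D) (hx : x ∈ D) :
    a * b * x * (b * a) ∈ D := by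
  have := h.conj' ha (h.conj' hb hx)
  have e : a * b * x * (b * a) = a * (b * x * b) * a := by simp only [mul_assoc]
  rw [e]; exact this

/-- the third point of a hyperbolic line does not commute with the others -/
theorem not_comm_third {x y : G} (hx : x ∈ D) (hy : y ∈ D) (hxy : ¬ Commute x y) :
    ¬ Commute (x * y * x) x := by
  intro hc
  apply hxy
  have h1 := (h.commute_conj_left_iff hx y x).1 hc
  have : x * x * x = x := by rw [h.sq x hx, one_mul]
  rw [this] at h1
  exact h1.symm

theorem not_comm_third' {x y : G} (hx : x ∈ D) (hy : y ∈ D) (hxy : ¬ Commute x y) :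
    ¬ Commute (x * y * x) y := by
  rw [h.braid x hx y hy hxy]
  exact not_comm_third h hy hx (fun hc => hxy hc.symm)

end Ids

/-! ### Lines -/

section Basic

variable (hU : UPolar D)

theorem left_mem {x y : G} (hx : x ∈ D) : x ∈ Ln D x y := ⟨hx, fun _ _ h1 _ => h1⟩

theorem right_mem {x y : G} (hy : y ∈ D) : y ∈ Ln D x y := ⟨hy, fun _ _ _ h1 => h1⟩

theorem Ln_comm (x y : G) : Ln D x y = Ln D y x := by
  ext z
  constructor
  · rintro ⟨h1, h2⟩; exact ⟨h1, fun d hd a b => h2 d hd b a⟩
  · rintro ⟨h1, h2⟩; exact ⟨h1, fun d hd a b => h2 d hd b a⟩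

theorem comm_of_mem {x y z z' : G} (hx : x ∈ D) (hy : y ∈ D) (hxy : Commute x y)
    (hz : z ∈ Ln D x y) (hz' : z' ∈ Ln D x y) : Commute z z' := by
  have h1 : Commute x z := hz.2 x hx (Commute.refl x) hxy
  have h2 : Commute y z := hz.2 y hy hxy.symm (Commute.refl y)
  exact hz'.2 z hz.1 h1.symm h2.symm

theorem Ln_subset {x y z z' : G} (hz : z ∈ Ln D x y) (hz' : z' ∈ Ln D x y) :
    Ln D z z' ⊆ Ln D x y := by
  rintro u ⟨h1, h2⟩
  exact ⟨h1, fun d hd a b => h2 d hd (hz.2 d hd a b) (hz'.2 d hd a b)⟩

include hU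

theorem Ln_finite {x y : G} (hx : x ∈ D) (hy : y ∈ D) (hne : x ≠ y) (hxy : Commute x y) :
    (Ln D x y).Finite := by
  apply Set.finite_of_ncard_ne_zero
  rw [hU.card x hx y hy hne hxy]
  norm_num

theorem Ln_eq {x y z z' : G} (hx : x ∈ D) (hy : y ∈ D) (hne : x ≠ y) (hxy : Commute x y)
    (hz : z ∈ Ln D x y) (hz' : z' ∈ Ln D x y) (hne' : z ≠ z') : Ln D z z' = Ln D x y := by
  apply Set.eq_of_subset_of_ncard_le (Ln_subset hz hz') _ (Ln_finite hU hx hy hne hxy)
  rw [hU.card x hx y hy hne hxy,
    hU.card z hz.1 z' hz'.1 hne' (comm_of_mem hx hy hxy hz hz')]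

/-- commuting with two points of a line -/
theorem comm_all {x y z z' u d : G} (hx : x ∈ D) (hy : y ∈ D) (hne : x ≠ y) (hxy : Commute x y)
    (hz : z ∈ Ln D x y) (hz' : z' ∈ Ln D x y) (hne' : z ≠ z') (hd : d ∈ D)
    (h1 : Commute d z) (h2 : Commute d z') (hu : u ∈ Ln D x y) : Commute d u := by
  rw [← Ln_eq hU hx hy hne hxy hz hz' hne'] at hu
  exact hu.2 d hd h1 h2

end Basic

/-- Enumeration of a five element set containing two given points. -/
theorem exists_enum {α : Type*} {s : Set α} (hs : s.ncard = 5) {a b : α} (ha : a ∈ s)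
    (hb : b ∈ s) (hab : a ≠ b) :
    ∃ c d e : α, c ∈ s ∧ d ∈ s ∧ e ∈ s ∧ c ≠ a ∧ c ≠ b ∧ d ≠ a ∧ d ≠ b ∧ e ≠ a ∧ e ≠ b ∧
      c ≠ d ∧ c ≠ e ∧ d ≠ e ∧ ∀ z ∈ s, z = a ∨ z = b ∨ z = c ∨ z = d ∨ z = e := by
  classical
  have hfin : s.Finite := Set.finite_of_ncard_ne_zero (by rw [hs]; norm_num)
  have h1 : ((s \ {a}) \ {b}).ncard = 3 := by
    have e1 := Set.ncard_sdiff_singleton_of_mem ha
    have e2 := Set.ncard_sdiff_singleton_of_mem (s := s \ {a}) (a := b) ⟨hb, fun h => hab h.symm⟩
    rw [e2, e1, hs]
  rw [Set.ncard_eq_three] at h1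
  obtain ⟨c, d, e, hcd, hce, hde, hset⟩ := h1
  have hc : c ∈ (s \ {a}) \ {b} := by rw [hset]; simp
  have hd : d ∈ (s \ {a}) \ {b} := by rw [hset]; simp
  have he : e ∈ (s \ {a}) \ {b} := by rw [hset]; simp
  refine ⟨c, d, e, hc.1.1, hd.1.1, he.1.1, hc.1.2, hc.2, hd.1.2, hd.2, he.1.2, he.2,
    hcd, hce, hde, ?_⟩
  intro z hz
  by_cases hza : z = a
  · exact Or.inl hza
  by_cases hzb : z = b
  · exact Or.inr (Or.inl hzb)
  have : z ∈ (s \ {a}) \ {b} := ⟨⟨hz, hza⟩, hzb⟩
  rw [hset] at this
  simp only [Set.mem_insert_iff, Set.mem_singleton_iff] at this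
  exact Or.inr (Or.inr this)

theorem exists_enum3 {α : Type*} {s : Set α} (hs : s.ncard = 5) {a b c : α} (ha : a ∈ s)
    (hb : b ∈ s) (hc : c ∈ s) (hab : a ≠ b) (hac : a ≠ c) (hbc : b ≠ c) :
    ∃ d e : α, d ∈ s ∧ e ∈ s ∧ d ≠ a ∧ d ≠ b ∧ d ≠ c ∧ e ≠ a ∧ e ≠ b ∧ e ≠ c ∧ d ≠ e ∧
      ∀ z ∈ s, z = a ∨ z = b ∨ z = c ∨ z = d ∨ z = e := by
  obtain ⟨u, v, w, hu, hv, hw, hua, hub, hva, hvb, hwa, hwb, huv, huw, hvw, hall⟩ :=
    exists_enum hs ha hb hab
  have hc' : c = u ∨ c = v ∨ c = w := by
    rcases hall c hc with h | h | h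
    · exact absurd h.symm hac
    · exact absurd h.symm hbc
    · exact h
  rcases hc' with rfl | rfl | rfl
  · exact ⟨v, w, hv, hw, hva, hvb, huv.symm, hwa, hwb, huw.symm, hvw, hall⟩
  · refine ⟨u, w, hu, hw, hua, hub, huv, hwa, hwb, hvw.symm, huw, ?_⟩
    intro z hz
    rcases hall z hz with h | h | h | h | h
    · exact Or.inl h
    · exact Or.inr (Or.inl h)
    · exact Or.inr (Or.inr (Or.inr (Or.inl h)))
    · exact Or.inr (Or.inr (Or.inl h))
    · exact Or.inr (Or.inr (Or.inr (Or.inr h)))
  · refine ⟨u, v, hu, hv, hua, hub, huw, hva, hvb, hvw, huv, ?_⟩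
    intro z hz
    rcases hall z hz with h | h | h | h | h
    · exact Or.inl h
    · exact Or.inr (Or.inl h)
    · exact Or.inr (Or.inr (Or.inr (Or.inl h)))
    · exact Or.inr (Or.inr (Or.inr (Or.inr h)))
    · exact Or.inr (Or.inr (Or.inl h))

/-! ### The action of products of two points of a line -/

section Action

variable (hU : UPolar D)
include hU

/-- **Key lemma.** `w, a, b` are three points of a line, `x` commutes with `w` only; then
`(ab) x (ab)⁻¹` is on the line through `w` and `x`. -/
theorem conj_two_mem {w a b x : G} (hw : w ∈ D) (ha : a ∈ D) (hb : b ∈ Ln D w a) (hx : x ∈ D)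
    (hwa : w ≠ a) (hcwa : Commute w a) (hbw : b ≠ w) (hba : b ≠ a) (hwx : Commute w x)
    (hax : ¬ Commute a x) : a * b * x * (b * a) ∈ Ln D w x := by
  have h := hU.fd
  have hbD := hb.1
  have haL : a ∈ Ln D w a := right_mem ha
  have hwL : w ∈ Ln D w a := left_mem hw
  have hcab : Commute a b := comm_of_mem hw ha hcwa haL hb
  have hcwb : Commute w b := comm_of_mem hw ha hcwa hwL hb
  have hxw : x ≠ w := by
    rintro rfl
    exact hax hcwa.symm
  -- every point other than `w` of the line does not commute with `x`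
  have key : ∀ c ∈ Ln D w a, c ≠ w → ¬ Commute c x := by
    intro c hc hcw hcx
    exact hax (comm_all hU hw ha hwa hcwa hc hwL hcw hx hcx.symm hwx.symm haL).symm
  have hbx : ¬ Commute b x := key b hb hbw
  have hx'D : a * b * x * (b * a) ∈ D := mem_conj_two h ha hbD hx
  have hx'x : a * b * x * (b * a) ≠ x := conj_two_ne h ha hbD hx (Ne.symm hba) hax hbx
  have hcx'x : Commute (a * b * x * (b * a)) x := comm_conj_two h ha hbD hx hcab hax hbx
  have sa := h.sq a ha
  have sb := h.sq b hbD
  have sx := h.sq x hx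
  have br1 := h.braid a ha x hx hax
  have br2 := h.braid b hbD x hx hbx
  have hab' : a * b = b * a := hcab.eq
  -- the other points
  obtain ⟨c, g', hcL, -, hcw, hca, hcb, -, -, -, -, hall⟩ :=
    exists_enum3 (hU.card w hw a ha hwa hcwa) hwL haL hb hwa hbw.symm hba.symm
  have hcD := hcL.1
  have sc := h.sq c hcD
  have hcx : ¬ Commute c x := key c hcL hcw
  have br3 := h.braid c hcD x hx hcx
  have hac : a * c = c * a := (comm_of_mem hw ha hcwa haL hcL).eq
  have hbc : b * c = c * b := (comm_of_mem hw ha hcwa hb hcL).eq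
  have hwx' := hwx.eq
  have hwa' := hcwa.eq
  have hwb' := hcwb.eq
  obtain ⟨k, hk⟩ : ∃ k, k = x * (a * b) * x := ⟨_, rfl⟩
  have haba : a * b * a = b := by rw [hab', mul_assoc, sa, mul_one]
  have hbab : b * a * b = a := by rw [← hab', mul_assoc, sb, mul_one]
  have hkk : k * k = 1 := by
    rw [hk]
    calc x * (a * b) * x * (x * (a * b) * x) = x * (a * b) * (x * x) * (a * b) * x := by
          simp only [mul_assoc]
      _ = x * (a * b * a) * b * x := by rw [sx, mul_one]; simp only [mul_assoc]
      _ = 1 := by rw [haba, mul_assoc x, sb, mul_one, sx]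
  have hk' : k⁻¹ = k := inv_eq_of_mul_eq_one_left hkk
  have hka : k * a * k⁻¹ = b := by
    rw [hk', hk]
    calc x * (a * b) * x * a * (x * (a * b) * x) = x * a * b * (x * a * x) * (a * b) * x := by
          simp only [mul_assoc]
      _ = x * a * b * (a * x * a) * (a * b) * x := by rw [br1]
      _ = x * (a * b * a) * x * (a * a) * b * x := by simp only [mul_assoc]
      _ = x * (b * x * b) * x := by rw [haba, sa, mul_one]; simp only [mul_assoc]
      _ = (x * x) * b * (x * x) := by rw [br2]; simp only [mul_assoc]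
      _ = b := by rw [sx, one_mul, mul_one]
  have hkb : k * b * k⁻¹ = a := by
    rw [hk', hk]
    calc x * (a * b) * x * b * (x * (a * b) * x) = x * a * b * (x * b * x) * (a * b) * x := by
          simp only [mul_assoc]
      _ = x * a * b * (b * x * b) * (a * b) * x := by rw [br2]
      _ = x * a * (b * b) * x * (b * a * b) * x := by simp only [mul_assoc]
      _ = x * (a * x * a) * x := by rw [hbab, sb, mul_one]; simp only [mul_assoc]
      _ = (x * x) * a * (x * x) := by rw [br1]; simp only [mul_assoc]
      _ = a := by rw [sx, one_mul, mul_one]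
  have hkw : k * w * k⁻¹ = w := by
    rw [hk', hk]
    calc x * (a * b) * x * w * (x * (a * b) * x) = x * (a * b) * (x * w) * x * (a * b) * x := by
          simp only [mul_assoc]
      _ = x * (a * b) * w * (x * x) * (a * b) * x := by rw [← hwx']; simp only [mul_assoc]
      _ = x * a * (b * w) * a * b * x := by rw [sx, mul_one]; simp only [mul_assoc]
      _ = x * (a * w) * (b * a * b) * x := by rw [← hwb']; simp only [mul_assoc]
      _ = (x * w) * (a * a) * x := by rw [hbab, ← hwa']; simp only [mul_assoc]
      _ = w := by rw [sa, mul_one, ← hwx', mul_assoc, sx, mul_one]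
  obtain ⟨g, hg⟩ : ∃ g, g = k * c * k⁻¹ := ⟨_, rfl⟩
  have hgD : g ∈ D := by rw [hg]; exact h.conj k c hcD
  have hLab : Ln D a b = Ln D w a := Ln_eq hU hw ha hwa hcwa haL hb hba.symm
  have hcg : k * g * k⁻¹ = c := by
    rw [hg, hk']
    calc k * (k * c * k) * k = (k * k) * c * (k * k) := by simp only [mul_assoc]
      _ = c := by rw [hkk, one_mul, mul_one]
  have hgL : g ∈ Ln D w a := by
    rw [← hLab]
    refine ⟨hgD, ?_⟩
    intro d hd hda hdb
    have hd' : k * d * k⁻¹ ∈ D := h.conj k d hd
    have h1 : Commute (k * d * k⁻¹) b := by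
      have := (FData.commute_conj_gen k d a).2 hda
      rwa [hka] at this
    have h2 : Commute (k * d * k⁻¹) a := by
      have := (FData.commute_conj_gen k d b).2 hdb
      rwa [hkb] at this
    have h3 : Commute (k * d * k⁻¹) c := by
      have : c ∈ Ln D a b := by rw [hLab]; exact hcL
      exact this.2 _ hd' h2 h1
    rw [← hcg] at h3
    exact (FData.commute_conj_gen k d g).1 h3
  -- `g` in terms of `x, x', c`
  obtain ⟨x', hx'⟩ : ∃ x', x' = a * b * x * (b * a) := ⟨_, rfl⟩
  rw [← hx'] at hx'D hx'x hcx'x ⊢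
  have hgx : g = x * x' * c * x' * x := by
    rw [hg, hk', hk, hx']
    calc x * (a * b) * x * c * (x * (a * b) * x)
        = x * (a * b) * x * c * x * (b * a) * x := by rw [hab']; simp only [mul_assoc]
      _ = x * (a * b) * x * (c * ((b * a) * (a * b))) * x * (b * a) * x := by
          rw [show (b * a) * (a * b) = 1 by
            rw [mul_assoc, ← mul_assoc a a, sa, one_mul, sb], mul_one]
      _ = x * (a * b) * x * ((c * b) * a * (a * b)) * x * (b * a) * x := by
          simp only [mul_assoc]
      _ = x * (a * b) * x * (b * (c * a) * (a * b)) * x * (b * a) * x := by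
          rw [← hbc]; simp only [mul_assoc]
      _ = x * (a * b * x * (b * a)) * c * (a * b * x * (b * a)) * x := by
          rw [← hac]; simp only [mul_assoc]
  have sx' := h.sq x' hx'D
  have hcx2 : c = x' * x * g * x * x' := by
    rw [hgx]
    calc c = (x' * (x * x) * x') * c * (x' * (x * x) * x') := by
          rw [sx, mul_one, sx', one_mul, mul_one]
      _ = x' * x * (x * x' * c * x' * x) * x * x' := by simp only [mul_assoc]
  have hgw : g ≠ w := by
    intro hgw
    apply hcw
    rw [← hcg, hgw, hkw]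
  have hga : g ≠ a := by
    intro hga
    apply hcb
    rw [← hcg, hga, hka]
  have hgb : g ≠ b := by
    intro hgb
    apply hca
    rw [← hcg, hgb, hkb]
  have hgc : g ≠ c := by
    intro hgc
    apply hx'x
    -- `k` commutes with `c`
    have h1 : k * c * k = c := by
      have h0 := hg
      rw [hk', hgc] at h0
      exact h0.symm
    rw [hk] at h1
    have h2 : (a * b) * (x * c * x) * (a * b) = x * c * x := by
      calc (a * b) * (x * c * x) * (a * b)
          = (x * x) * ((a * b) * (x * c * x) * (a * b)) * (x * x) := by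
            rw [sx, one_mul, mul_one]
        _ = x * (x * (a * b) * x * c * (x * (a * b) * x)) * x := by simp only [mul_assoc]
        _ = x * c * x := by rw [h1]
    rw [← br3] at h2
    have hc1 : c * (a * b) = (a * b) * c := by
      rw [← mul_assoc, ← hac, mul_assoc, ← hbc, mul_assoc]
    have hc2 : (b * a) * c = c * (b * a) := by
      rw [mul_assoc, hac, ← mul_assoc, hbc, mul_assoc]
    have h3 : c * x' * c = c * x * c := by
      rw [hx']
      calc c * (a * b * x * (b * a)) * c = (c * (a * b)) * x * ((b * a) * c) := by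
            simp only [mul_assoc]
        _ = ((a * b) * c) * x * (c * (b * a)) := by rw [hc1, hc2]
        _ = (a * b) * (c * x * c) * (b * a) := by simp only [mul_assoc]
        _ = (a * b) * (c * x * c) * (a * b) := by rw [← hab']
        _ = c * x * c := h2
    exact mul_left_cancel (mul_right_cancel h3)
  have hall' : ∀ z ∈ Ln D w a, z = w ∨ z = a ∨ z = b ∨ z = c ∨ z = g := by
    have hg' : g = g' := by
      rcases hall g hgL with h1 | h1 | h1 | h1 | h1
      · exact absurd h1 hgw
      · exact absurd h1 hga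
      · exact absurd h1 hgb
      · exact absurd h1 hgc
      · exact h1
    rw [hg']; exact hall
  -- `w` is on the line through `x` and `x'`
  have hwx2 : w ∈ Ln D x x' := by
    refine ⟨hw, ?_⟩
    intro d hd hdx hdx'
    obtain ⟨z, hz, hdz⟩ := hU.one w hw a ha hwa hcwa d hd
    rcases hall' z hz with rfl | rfl | rfl | rfl | rfl
    · exact hdz
    · have hdb : Commute d b := by
        have e : b = x * (z * x' * z) * x := by
          rw [hx']
          calc b = (x * x) * b * (x * x) := by rw [sx, one_mul, mul_one]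
            _ = x * (x * b * x) * x := by simp only [mul_assoc]
            _ = x * (b * x * b) * x := by rw [br2]
            _ = x * ((z * z) * b * x * b * (z * z)) * x := by rw [sa, one_mul, mul_one]
            _ = x * (z * (z * b * x * (b * z)) * z) * x := by simp only [mul_assoc]
        rw [e]
        exact (hdx.mul_right ((hdz.mul_right hdx').mul_right hdz)).mul_right hdx
      exact comm_all hU hw ha hwa hcwa haL hb hba.symm hd hdz hdb hwL
    · have hda : Commute d a := by
        have e : a = x * (z * x' * z) * x := by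
          rw [hx']
          calc a = (x * x) * a * (x * x) := by rw [sx, one_mul, mul_one]
            _ = x * (x * a * x) * x := by simp only [mul_assoc]
            _ = x * (a * x * a) * x := by rw [br1]
            _ = x * ((z * a * z) * x * (z * a * z)) * x := by rw [hbab]
            _ = x * (z * (a * z * x * (z * a)) * z) * x := by simp only [mul_assoc]
        rw [e]
        exact (hdx.mul_right ((hdz.mul_right hdx').mul_right hdz)).mul_right hdx
      exact comm_all hU hw ha hwa hcwa haL hb hba.symm hd hda hdz hwL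
    · have hdg : Commute d g := by
        rw [hgx]
        exact (((hdx.mul_right hdx').mul_right hdz).mul_right hdx').mul_right hdx
      exact comm_all hU hw ha hwa hcwa hcL hgL hgc.symm hd hdz hdg hwL
    · have hdc : Commute d c := by
        rw [hcx2]
        exact (((hdx'.mul_right hdx).mul_right hdz).mul_right hdx).mul_right hdx'
      exact comm_all hU hw ha hwa hcwa hcL hgL hgc.symm hd hdc hdz hwL
  have e1 : Ln D w x = Ln D x x' :=
    Ln_eq hU hx hx'D hx'x.symm hcx'x.symm hwx2 (left_mem hx) hxw.symm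
  rw [e1]
  exact right_mem hx'D

end Action

/-! ### Lines as sets -/

/-- `L` is a line. -/
def IsLine (D L : Set G) : Prop :=
  ∃ x ∈ D, ∃ y ∈ D, x ≠ y ∧ Commute x y ∧ L = Ln D x y

theorem isLine_Ln {x y : G} (hx : x ∈ D) (hy : y ∈ D) (hne : x ≠ y) (hxy : Commute x y) :
    IsLine D (Ln D x y) := ⟨x, hx, y, hy, hne, hxy, rfl⟩

namespace IsLine

variable {L : Set G}

theorem mem_D (hL : IsLine D L) {z : G} (hz : z ∈ L) : z ∈ D := by
  obtain ⟨x, hx, y, hy, hne, hxy, rfl⟩ := hL
  exact hz.1

theorem comm (hL : IsLine D L) {z z' : G} (hz : z ∈ L) (hz' : z' ∈ L) : Commute z z' := by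
  obtain ⟨x, hx, y, hy, hne, hxy, rfl⟩ := hL
  exact comm_of_mem hx hy hxy hz hz'

variable (hU : UPolar D)
include hU

theorem card (hL : IsLine D L) : L.ncard = 5 := by
  obtain ⟨x, hx, y, hy, hne, hxy, rfl⟩ := hL
  exact hU.card x hx y hy hne hxy

theorem eq (hL : IsLine D L) {z z' : G} (hz : z ∈ L) (hz' : z' ∈ L) (hne : z ≠ z') :
    Ln D z z' = L := by
  obtain ⟨x, hx, y, hy, hne', hxy, rfl⟩ := hL
  exact Ln_eq hU hx hy hne' hxy hz hz' hne

theorem all (hL : IsLine D L) {z z' u d : G} (hz : z ∈ L) (hz' : z' ∈ L) (hne : z ≠ z')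
    (hd : d ∈ D) (h1 : Commute d z) (h2 : Commute d z') (hu : u ∈ L) : Commute d u := by
  obtain ⟨x, hx, y, hy, hne', hxy, rfl⟩ := hL
  exact comm_all hU hx hy hne' hxy hz hz' hne hd h1 h2 hu

theorem one (hL : IsLine D L) {d : G} (hd : d ∈ D) : ∃ z ∈ L, Commute d z := by
  obtain ⟨x, hx, y, hy, hne', hxy, rfl⟩ := hL
  exact hU.one x hx y hy hne' hxy d hd

/-- two lines with two common points are equal -/
theorem eq_of_two (hL : IsLine D L) {M : Set G} (hM : IsLine D M) {z z' : G} (hz : z ∈ L)
    (hz' : z' ∈ L) (hzM : z ∈ M) (hzM' : z' ∈ M) (hne : z ≠ z') : L = M := by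
  rw [← hL.eq hU hz hz' hne, ← hM.eq hU hzM hzM' hne]

/-- if `d` commutes with `w ∈ L` and not with `a ∈ L` then it commutes only with `w` -/
theorem only (hL : IsLine D L) {w a b d : G} (hw : w ∈ L) (ha : a ∈ L) (hb : b ∈ L) (hd : d ∈ D)
    (h1 : Commute d w) (h2 : ¬ Commute d a) (h3 : Commute d b) : b = w := by
  by_contra hne
  exact h2 (hL.all hU hb hw hne hd h3 h1 ha)

theorem conj_two_mem (hL : IsLine D L) {w a b x : G} (hw : w ∈ L) (ha : a ∈ L) (hb : b ∈ L)
    (haw : a ≠ w) (hbw : b ≠ w) (hx : x ∈ D) (hwx : Commute w x) :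
    a * b * x * (b * a) ∈ Ln D w x := by
  have h := hU.fd
  have sa := h.sq a (hL.mem_D ha)
  have sb := h.sq b (hL.mem_D hb)
  by_cases hax : Commute a x
  · have hbx : Commute x b := hL.all hU hw ha haw.symm hx hwx.symm hax.symm hb
    have e : a * b * x * (b * a) = x := by
      calc a * b * x * (b * a) = a * b * (x * b) * a := by simp only [mul_assoc]
        _ = a * (b * b) * (x * a) := by rw [hbx.eq]; simp only [mul_assoc]
        _ = x := by rw [sb, mul_one, ← hax.eq, ← mul_assoc, sa, one_mul]
    rw [e]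
    exact right_mem hx
  · by_cases hab : b = a
    · subst hab
      have e : b * b * x * (b * b) = x := by rw [sb, one_mul, mul_one]
      rw [e]
      exact right_mem hx
    · have e := hL.eq hU hw ha haw.symm
      apply Lines.conj_two_mem hU (hL.mem_D hw) (hL.mem_D ha) _ hx haw.symm (hL.comm hw ha)
        hbw hab hwx hax
      rw [e]; exact hb

end IsLine

/-- five distinct elements exhaust a set with five elements -/
theorem mem_five {α : Type*} {s : Set α} (hs : s.ncard = 5) {a b c d e : α} (ha : a ∈ s)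
    (hb : b ∈ s) (hc : c ∈ s) (hd : d ∈ s) (he : e ∈ s) (hab : a ≠ b) (hac : a ≠ c) (had : a ≠ d)
    (hae : a ≠ e) (hbc : b ≠ c) (hbd : b ≠ d) (hbe : b ≠ e) (hcd : c ≠ d) (hce : c ≠ e)
    (hde : d ≠ e) {z : α} (hz : z ∈ s) : z = a ∨ z = b ∨ z = c ∨ z = d ∨ z = e := by
  obtain ⟨u, v, hu, hv, hua, hub, huc, hva, hvb, hvc, huv, hall⟩ := exists_enum3 hs ha hb hc hab
    hac hbc
  have h1 : d = u ∨ d = v := by
    rcases hall d hd with h | h | h | h | h
    · exact absurd h.symm had
    · exact absurd h.symm hbd
    · exact absurd h.symm hcd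
    · exact Or.inl h
    · exact Or.inr h
  have h2 : e = u ∨ e = v := by
    rcases hall e he with h | h | h | h | h
    · exact absurd h.symm hae
    · exact absurd h.symm hbe
    · exact absurd h.symm hce
    · exact Or.inl h
    · exact Or.inr h
  rcases hall z hz with h | h | h | h | h
  · exact Or.inl h
  · exact Or.inr (Or.inl h)
  · exact Or.inr (Or.inr (Or.inl h))
  · rcases h1 with rfl | rfl
    · exact Or.inr (Or.inr (Or.inr (Or.inl h)))
    · rcases h2 with rfl | rfl
      · exact Or.inr (Or.inr (Or.inr (Or.inr h)))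
      · exact absurd rfl hde
  · rcases h1 with rfl | rfl
    · rcases h2 with rfl | rfl
      · exact absurd rfl hde
      · exact Or.inr (Or.inr (Or.inr (Or.inr h)))
    · exact Or.inr (Or.inr (Or.inr (Or.inl h)))

/-- the five points of a line -/
structure Five (L : Set G) (a b c d e : G) : Prop where
  ha : a ∈ L
  hb : b ∈ L
  hc : c ∈ L
  hd : d ∈ L
  he : e ∈ L
  hab : a ≠ b
  hac : a ≠ c
  had : a ≠ d
  hae : a ≠ e
  hbc : b ≠ c
  hbd : b ≠ d
  hbe : b ≠ e
  hcd : c ≠ d
  hce : c ≠ e
  hde : d ≠ e

section Prod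

variable (hU : UPolar D) {L : Set G}
include hU

theorem four_comm (hL : IsLine D L) {w a b c d x : G} (hF : Five L w a b c d) (hx : x ∈ D)
    (hwx : Commute w x) : Commute (a * b * (c * d)) x := by
  have h := hU.fd
  by_cases hax : Commute a x
  · have hall : ∀ z ∈ L, Commute z x := fun z hz =>
      (hL.all hU hF.ha hF.hb hF.hab hx hwx.symm hax.symm hz).symm
    exact ((hall _ hF.hb).mul_left (hall _ hF.hc)).mul_left
      ((hall _ hF.hd).mul_left (hall _ hF.he))
  · have haD := hL.mem_D hF.hb
    have hbD := hL.mem_D hF.hc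
    have hcD := hL.mem_D hF.hd
    have hdD := hL.mem_D hF.he
    have key : ∀ z ∈ L, z ≠ w → ¬ Commute z x := by
      intro z hz hzw hzx
      apply hzw
      exact hL.only hU hF.ha hF.hb hz hx hwx.symm (fun h1 => hax h1.symm) hzx.symm
    have hbx := key b hF.hc hF.hac.symm
    have hcx := key c hF.hd hF.had.symm
    have hdx := key d hF.he hF.hae.symm
    have hxw : w ≠ x := by
      rintro rfl
      exact hax (hL.comm hF.hb hF.ha)
    have sa := h.sq a haD
    have sb := h.sq b hbD
    have sc := h.sq c hcD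
    have sd := h.sq d hdD
    have m12 := hL.conj_two_mem hU hF.ha hF.hb hF.hc hF.hab.symm hF.hac.symm hx hwx
    have m13 := hL.conj_two_mem hU hF.ha hF.hb hF.hd hF.hab.symm hF.had.symm hx hwx
    have m14 := hL.conj_two_mem hU hF.ha hF.hb hF.he hF.hab.symm hF.hae.symm hx hwx
    have m34 := hL.conj_two_mem hU hF.ha hF.hd hF.he hF.had.symm hF.hae.symm hx hwx
    have n12 := conj_two_ne h haD hbD hx hF.hbc hax hbx
    have n13 := conj_two_ne h haD hcD hx hF.hbd hax hcx
    have n14 := conj_two_ne h haD hdD hx hF.hbe hax hdx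
    have n34 := conj_two_ne h hcD hdD hx hF.hde hcx hdx
    -- none of them is `w`
    have nw : ∀ u v : G, u ∈ L → v ∈ L → u * u = 1 → v * v = 1 → w ≠ u * v * x * (v * u) := by
      intro u v hu hv su sv e
      apply hxw
      have hw1 := (hL.comm hF.ha hu).eq
      have hw2 := (hL.comm hF.ha hv).eq
      calc w = (v * (u * u) * v) * w := by rw [su, mul_one, sv, one_mul]
        _ = v * u * (u * (v * w)) := by simp only [mul_assoc]
        _ = v * u * (u * w) * v := by rw [← hw2]; simp only [mul_assoc]
        _ = v * u * w * (u * v) := by rw [← hw1]; simp only [mul_assoc]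
        _ = v * u * (u * v * x * (v * u)) * (u * v) := by rw [← e]
        _ = v * (u * u) * v * x * (v * (u * u) * v) := by simp only [mul_assoc]
        _ = x := by rw [su, mul_one, sv, one_mul, mul_one]
    -- cancellation
    have canc : ∀ u v v' : G, u * u = 1 → v ∈ D → v' ∈ D → ¬ Commute v x → ¬ Commute v' x →
        u * v * x * (v * u) = u * v' * x * (v' * u) → v = v' := by
      intro u v v' su hv hv' hvx hvx' e
      apply eq_of_conj_eq h hv hv' hx hvx hvx'
      calc v * x * v = (u * u) * (v * x * v) * (u * u) := by rw [su, one_mul, mul_one]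
        _ = u * (u * v * x * (v * u)) * u := by simp only [mul_assoc]
        _ = u * (u * v' * x * (v' * u)) * u := by rw [e]
        _ = (u * u) * (v' * x * v') * (u * u) := by simp only [mul_assoc]
        _ = v' * x * v' := by rw [su, one_mul, mul_one]
    have hLx : IsLine D (Ln D w x) := isLine_Ln (hL.mem_D hF.ha) hx hxw hwx
    have hab : a * b = b * a := (hL.comm hF.hb hF.hc).eq
    have hac : a * c = c * a := (hL.comm hF.hb hF.hd).eq
    have had : a * d = d * a := (hL.comm hF.hb hF.he).eq
    have hbc : b * c = c * b := (hL.comm hF.hc hF.hd).eq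
    have hbd : b * d = d * b := (hL.comm hF.hc hF.he).eq
    have hcd : c * d = d * c := (hL.comm hF.hd hF.he).eq
    have hfive := mem_five (hLx.card hU) (left_mem (hL.mem_D hF.ha)) (right_mem hx) m12 m13 m14
      hxw (nw a b hF.hb hF.hc sa sb) (nw a c hF.hb hF.hd sa sc) (nw a d hF.hb hF.he sa sd)
      (Ne.symm n12) (Ne.symm n13) (Ne.symm n14)
      (fun e => hF.hcd (canc a b c sa hbD hcD hbx hcx e))
      (fun e => hF.hce (canc a b d sa hbD hdD hbx hdx e))
      (fun e => hF.hde (canc a c d sa hcD hdD hcx hdx e)) m34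
    have hmain : c * d * x * (d * c) = a * b * x * (b * a) := by
      rcases hfive with e | e | e | e | e
      · exact absurd e.symm (nw c d hF.hd hF.he sc sd)
      · exact absurd e n34
      · exact e
      · exfalso
        have e' : c * d * x * (d * c) = c * a * x * (a * c) := by rw [e, hac]
        exact hF.hbe (canc c d a sc hdD haD hdx hax e').symm
      · exfalso
        have e1 : d * c * x * (c * d) = c * d * x * (d * c) := by rw [hcd]
        have e' : d * c * x * (c * d) = d * a * x * (a * d) := by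
          rw [e1, e, had]
        exact hF.hbd (canc d c a sd hcD haD hcx hax e').symm
    -- conclusion
    have h1 : (a * b * (c * d)) * x * (a * b * (c * d)) = x := by
      calc (a * b * (c * d)) * x * (a * b * (c * d))
          = a * b * (c * d * x * (d * c)) * (a * b) := by
            rw [show a * b * (c * d) = (d * c) * (a * b) by
              rw [← hcd]
              calc a * b * (c * d) = a * (b * c) * d := by simp only [mul_assoc]
                _ = (a * c) * (b * d) := by rw [hbc]; simp only [mul_assoc]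
                _ = c * (a * d) * b := by rw [hac, hbd]; simp only [mul_assoc]
                _ = c * d * (a * b) := by rw [had]; simp only [mul_assoc]]
            calc (d * c) * (a * b) * x * ((d * c) * (a * b))
                = ((d * c) * (a * b)) * x * (d * c) * (a * b) := by simp only [mul_assoc]
              _ = (a * b * (c * d)) * x * (d * c) * (a * b) := by
                rw [show (d * c) * (a * b) = a * b * (c * d) by
                  rw [← hcd]
                  calc c * d * (a * b) = c * (d * a) * b := by simp only [mul_assoc]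
                    _ = (c * a) * (d * b) := by rw [← had]; simp only [mul_assoc]
                    _ = a * (c * b) * d := by rw [← hac, ← hbd]; simp only [mul_assoc]
                    _ = a * b * (c * d) := by rw [← hbc]; simp only [mul_assoc]]
              _ = a * b * (c * d * x * (d * c)) * (a * b) := by simp only [mul_assoc]
        _ = a * b * (a * b * x * (b * a)) * (a * b) := by rw [hmain]
        _ = (a * b * a) * b * x * (b * (a * a) * b) := by simp only [mul_assoc]
        _ = x := by rw [sa, mul_one, sb, mul_one, hab, mul_assoc b a a, sa, mul_one, sb, one_mul]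
    have h2 : (a * b * (c * d)) * (a * b * (c * d)) = 1 := by
      calc (a * b * (c * d)) * (a * b * (c * d)) = a * b * (c * (d * a) * b) * (c * d) := by
            simp only [mul_assoc]
        _ = a * b * ((c * a) * (d * b)) * (c * d) := by rw [← had]; simp only [mul_assoc]
        _ = a * b * (a * (c * b) * d) * (c * d) := by
            rw [← hac, ← hbd]; simp only [mul_assoc]
        _ = (a * b * (a * b)) * (c * d * (c * d)) := by
            rw [← hbc]; simp only [mul_assoc]
        _ = (a * (b * a) * b) * (c * (d * c) * d) := by simp only [mul_assoc]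
        _ = ((a * a) * (b * b)) * ((c * c) * (d * d)) := by
            rw [← hab, ← hcd]; simp only [mul_assoc]
        _ = 1 := by rw [sa, sb, sc, sd]; simp
    show (a * b * (c * d)) * x = x * (a * b * (c * d))
    calc (a * b * (c * d)) * x = (a * b * (c * d)) * x * ((a * b * (c * d)) * (a * b * (c * d))) := by
          rw [h2, mul_one]
      _ = ((a * b * (c * d)) * x * (a * b * (c * d))) * (a * b * (c * d)) := by
          simp only [mul_assoc]
      _ = x * (a * b * (c * d)) := by rw [h1]

omit hU in
theorem Five.swap12 {a b c d e : G} (h : Five L a b c d e) : Five L b a c d e :=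
  ⟨h.hb, h.ha, h.hc, h.hd, h.he, h.hab.symm, h.hbc, h.hbd, h.hbe, h.hac, h.had, h.hae, h.hcd,
    h.hce, h.hde⟩

omit hU in
theorem Five.swap13 {a b c d e : G} (h : Five L a b c d e) : Five L c b a d e :=
  ⟨h.hc, h.hb, h.ha, h.hd, h.he, h.hbc.symm, h.hac.symm, h.hcd, h.hce, h.hab.symm, h.hbd, h.hbe,
    h.had, h.hae, h.hde⟩

omit hU in
theorem Five.swap14 {a b c d e : G} (h : Five L a b c d e) : Five L d b c a e :=
  ⟨h.hd, h.hb, h.hc, h.ha, h.he, h.hbd.symm, h.hcd.symm, h.had.symm, h.hde, h.hbc, h.hab.symm,
    h.hbe, h.hac.symm, h.hce, h.hae⟩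

omit hU in
theorem Five.swap15 {a b c d e : G} (h : Five L a b c d e) : Five L e b c d a :=
  ⟨h.he, h.hb, h.hc, h.hd, h.ha, h.hbe.symm, h.hce.symm, h.hde.symm, h.hae.symm, h.hbc, h.hbd,
    h.hab.symm, h.hcd, h.hac.symm, h.had.symm⟩

/-- **The product of the five points of a line is `1`.** -/
theorem prod_eq_one (hL : IsLine D L) {w a b c d : G} (hF : Five L w a b c d) :
    w * a * b * c * d = 1 := by
  have hwa := (hL.comm hF.ha hF.hb).eq
  have hwb := (hL.comm hF.ha hF.hc).eq
  have hwc := (hL.comm hF.ha hF.hd).eq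
  have hwd := (hL.comm hF.ha hF.he).eq
  have hab := (hL.comm hF.hb hF.hc).eq
  have hac := (hL.comm hF.hb hF.hd).eq
  have had := (hL.comm hF.hb hF.he).eq
  have hbc := (hL.comm hF.hc hF.hd).eq
  have hbd := (hL.comm hF.hc hF.he).eq
  have hcd := (hL.comm hF.hd hF.he).eq
  apply hU.center
  intro x hx
  obtain ⟨z, hz, hxz⟩ := hL.one hU hx
  have hfive := mem_five (hL.card hU) hF.ha hF.hb hF.hc hF.hd hF.he hF.hab hF.hac hF.had hF.hae
    hF.hbc hF.hbd hF.hbe hF.hcd hF.hce hF.hde hz
  have main : ∀ u p q r s : G, Five L u p q r s → Commute x u →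
      Commute (u * (p * q * (r * s))) x := fun u p q r s hf hxu =>
    hxu.symm.mul_left (four_comm hU hL hf hx hxu.symm)
  rcases hfive with rfl | rfl | rfl | rfl | rfl
  · have := main _ _ _ _ _ hF hxz
    have e : z * a * b * c * d = z * (a * b * (c * d)) := by simp only [mul_assoc]
    rw [e]; exact this
  · have := main _ _ _ _ _ hF.swap12 hxz
    have e : w * z * b * c * d = z * (w * b * (c * d)) := by rw [hwa]; simp only [mul_assoc]
    rw [e]; exact this
  · have := main _ _ _ _ _ hF.swap13 hxz
    have e : w * a * z * c * d = z * (a * w * (c * d)) := by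
      calc w * a * z * c * d = w * (a * z) * c * d := by simp only [mul_assoc]
        _ = (w * z) * a * c * d := by rw [hab]; simp only [mul_assoc]
        _ = z * (w * a) * c * d := by rw [hwb]; simp only [mul_assoc]
        _ = z * (a * w * (c * d)) := by rw [hwa]; simp only [mul_assoc]
    rw [e]; exact this
  · have := main _ _ _ _ _ hF.swap14 hxz
    have e : w * a * b * z * d = z * (a * b * (w * d)) := by
      calc w * a * b * z * d = w * a * (b * z) * d := by simp only [mul_assoc]
        _ = w * (a * z) * b * d := by rw [hbc]; simp only [mul_assoc]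
        _ = (w * z) * a * b * d := by rw [hac]; simp only [mul_assoc]
        _ = z * (w * a) * b * d := by rw [hwc]; simp only [mul_assoc]
        _ = z * a * (w * b) * d := by rw [hwa]; simp only [mul_assoc]
        _ = z * (a * b * (w * d)) := by rw [hwb]; simp only [mul_assoc]
    rw [e]; exact this
  · have := main _ _ _ _ _ hF.swap15 hxz
    have e : w * a * b * c * z = z * (a * b * (c * w)) := by
      calc w * a * b * c * z = w * a * b * (c * z) := by simp only [mul_assoc]
        _ = w * a * (b * z) * c := by rw [hcd]; simp only [mul_assoc]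
        _ = w * (a * z) * b * c := by rw [hbd]; simp only [mul_assoc]
        _ = (w * z) * a * b * c := by rw [had]; simp only [mul_assoc]
        _ = z * (w * a) * b * c := by rw [hwd]; simp only [mul_assoc]
        _ = z * a * (w * b) * c := by rw [hwa]; simp only [mul_assoc]
        _ = z * a * b * (w * c) := by rw [hwb]; simp only [mul_assoc]
        _ = z * (a * b * (c * w)) := by rw [hwc]; simp only [mul_assoc]
    rw [e]; exact this

end Prod

end Cfsg.Agent.Fischer468.Lines
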