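import Cfsg.Agent.Fischer468.Orient

set_option autoImplicit false

/-!
# The group `N` generated by the even elements of the lines through `w`
-/

namespace Cfsg.Agent.Fischer468.NGroup

open Cfsg Cfsg.Agent.SporadicStructure.FischerSpace Cfsg.Agent.Fischer468.Lines
open Cfsg.Agent.Fischer468.FieldMaps Cfsg.Agent.SporadicA.FieldFour
open Cfsg.Agent.Fischer468.Labels Cfsg.Agent.Fischer468.Orient

variable {G : Type*} [Group G] {D : Set G}

/-- the group generated by `w` and the even elements of the lines through `w` -/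
def Nsub (D : Set G) (w e : G) (p : G → F4 → G) : Subgroup G :=
  Subgroup.closure ({w} ∪ {g | ∃ z, InP D w e z ∧ ∃ u : F4, g = sg w (p z) u})

section

variable {w e : G} {p : G → F4 → G}

theorem w_mem : w ∈ Nsub D w e p := Subgroup.subset_closure (Or.inl rfl)

theorem sg_mem {z : G} (hz : InP D w e z) (u : F4) : sg w (p z) u ∈ Nsub D w e p :=
  Subgroup.subset_closure (Or.inr ⟨z, hz, u, rfl⟩)

variable (hU : UPolar D) (F : Fam D w e p)
include hU F

/-- the members of `N` act on every line through `w` as translations -/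
theorem exists_tr_N {g y : G} (hg : g ∈ Nsub D w e p) (hy : InP D w e y) :
    ∃ m, Tr g (p y) m := by
  refine Subgroup.closure_induction (p := fun g _ => ∃ m, Tr g (p y) m) ?_ ?_ ?_ ?_ hg
  · rintro x (rfl | ⟨z, hz, u, rfl⟩)
    · exact ⟨0, tr_w hU F.hw hy.mem (hy.ne F.hwe) hy.cw (F.lab y hy)⟩
    · exact ⟨_, tr_sg hU F hz hy u⟩
  · exact ⟨0, Tr.one⟩
  · rintro a b - - ⟨m, h1⟩ ⟨m', h2⟩
    exact ⟨_, h1.mul h2⟩
  · rintro a - ⟨m, h1⟩
    exact ⟨m, h1.inv⟩

theorem tr_N {g y : G} (hg : g ∈ Nsub D w e p) (hy : InP D w e y) :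
    Tr g (p y) (phi p y g) := by
  obtain ⟨m, hm⟩ := exists_tr_N hU F hg hy
  rw [phi_eq F hy hm]
  exact hm

theorem phi_mul_N {g h y : G} (hg : g ∈ Nsub D w e p) (hh : h ∈ Nsub D w e p)
    (hy : InP D w e y) : phi p y (g * h) = phi p y g + phi p y h :=
  phi_mul F hy (tr_N hU F hg hy) (tr_N hU F hh hy)

theorem phi_w {y : G} (hy : InP D w e y) : phi p y w = 0 :=
  phi_eq F hy (tr_w hU F.hw hy.mem (hy.ne F.hwe) hy.cw (F.lab y hy))

theorem comm_w_N {g : G} (hg : g ∈ Nsub D w e p) : Commute w g := by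
  refine Subgroup.closure_induction (p := fun g _ => Commute w g) ?_ ?_ ?_ ?_ hg
  · rintro x (rfl | ⟨z, hz, u, rfl⟩)
    · exact Commute.refl _
    · exact sg_comm_w hU F.hw hz.mem (hz.ne F.hwe) hz.cw (F.lab z hz) u
  · exact Commute.one_right w
  · intro a b _ _ h1 h2
    exact h1.mul_right h2
  · intro a _ h1
    exact h1.inv_right

end

end Cfsg.Agent.Fischer468.NGroup
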