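import Cfsg.Agent.Fischer468.Coherent
import Cfsg.Agent.Fischer468.NGroup
import Cfsg.Agent.Fischer920.PsuEnd

set_option autoImplicit false

/-!
# The homomorphism from `N` to the Hermitian space `M`
-/

namespace Cfsg.Agent.Fischer468.Mu

open Cfsg Cfsg.Agent.SporadicStructure.FischerSpace Cfsg.Agent.Fischer468.Lines
open Cfsg.Agent.Fischer468.FieldMaps Cfsg.Agent.SporadicA.FieldFour
open Cfsg.Agent.Fischer468.Labels Cfsg.Agent.Fischer468.Orient
open Cfsg.Agent.Fischer468.NGroup Cfsg.Agent.Fischer920.PsuEnd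

variable {G : Type*} [Group G] {D : Set G} {w e : G} {p : G → F4 → G}

theorem card_F4 : Fintype.card F4 = 2 ^ 2 := rfl

/-- a Hermitian space spanned by vectors whose products are given by the labels -/
structure GramSp (D : Set G) (w e : G) (p : G → F4 → G) (V : Type*) [AddCommGroup V]
    [Module F4 V] (h : V → V → F4) (x : G → V) : Prop where
  herm : HermSp F4 V h
  gram : ∀ z y, InP D w e z → InP D w e y → h (x z) (x y) = phi p y (sg w (p z) 1)
  span : Submodule.span F4 (x '' {z | InP D w e z}) = ⊤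
  lin : ∀ z y, InP D w e z → InP D w e y →
    ∀ u, phi p y (sg w (p z) u) = u * phi p y (sg w (p z) 1)

variable {V : Type*} [AddCommGroup V] [Module F4 V] {h : V → V → F4} {x : G → V}

theorem zero_left (H : HermSp F4 V h) (v : V) : h 0 v = 0 := by
  have := H.smul_left 0 0 v
  rwa [zero_smul, zero_mul] at this

theorem zero_right (H : HermSp F4 V h) (v : V) : h v 0 = 0 := by
  rw [H.swap, zero_left H, (sq_eq_zero 0).2 rfl]

theorem two_smul' (v : V) : v + v = 0 := by
  have h1 : (1 + 1 : F4) • v = v + v := by rw [add_smul, one_smul]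
  rw [← h1, add_self', zero_smul]

theorem neg_eq' (v : V) : -v = v := by
  rw [neg_eq_iff_add_eq_zero, two_smul']

section

variable (S : GramSp D w e p V h x)
include S

theorem eq_of_forall {m m' : V} (hm : ∀ y, InP D w e y → h m (x y) = h m' (x y)) : m = m' := by
  have H := S.herm
  have key : ∀ v : V, h (m - m') v = 0 := by
    intro v
    have hv : v ∈ Submodule.span F4 (x '' {z | InP D w e z}) := by rw [S.span]; trivial
    refine Submodule.span_induction (p := fun v _ => h (m - m') v = 0) ?_ ?_ ?_ ?_ hv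
    · rintro _ ⟨y, hy, rfl⟩
      have e1 : m - m' = m + m' := by rw [sub_eq_add_neg, neg_eq']
      rw [e1, H.add_left, hm y hy, add_self']
    · exact zero_right H _
    · intro a b _ _ ha hb
      rw [H.add_right card_F4, ha, hb, add_zero]
    · intro a b _ hb
      rw [H.smul_right, hb, mul_zero]
  exact sub_eq_zero.1 (H.nondeg _ key)

variable (hU : UPolar D) (F : Fam D w e p)
include hU F

theorem exists_mu {g : G} (hg : g ∈ Nsub D w e p) :
    ∃ m : V, ∀ y, InP D w e y → h m (x y) = phi p y g := by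
  have H := S.herm
  refine Subgroup.closure_induction
    (p := fun g _ => ∃ m : V, ∀ y, InP D w e y → h m (x y) = phi p y g) ?_ ?_ ?_ ?_ hg
  · rintro g (rfl | ⟨z, hz, u, rfl⟩)
    · exact ⟨0, fun y hy => by rw [zero_left H, phi_w hU F hy]⟩
    · refine ⟨u • x z, fun y hy => ?_⟩
      rw [H.smul_left, S.gram z y hz hy, S.lin z y hz hy u]
  · refine ⟨0, fun y hy => ?_⟩
    rw [zero_left H, phi_eq F hy Tr.one]
  · rintro a b ha hb ⟨m, hm⟩ ⟨m', hm'⟩
    refine ⟨m + m', fun y hy => ?_⟩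
    rw [H.add_left, hm y hy, hm' y hy, phi_mul_N hU F ha hb hy]
  · rintro a ha ⟨m, hm⟩
    refine ⟨m, fun y hy => ?_⟩
    rw [hm y hy, phi_eq F hy (tr_N hU F ha hy).inv]

/-- the homomorphism from `N` to the Hermitian space -/
noncomputable def mu (g : Nsub D w e p) : V := (exists_mu S hU F g.2).choose

theorem h_mu (g : Nsub D w e p) {y : G} (hy : InP D w e y) :
    h (mu S hU F g) (x y) = phi p y g := (exists_mu S hU F g.2).choose_spec y hy

theorem mu_eq {g : Nsub D w e p} {m : V} (hm : ∀ y, InP D w e y → h m (x y) = phi p y g) :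
    mu S hU F g = m :=
  eq_of_forall S (fun y hy => by rw [h_mu S hU F g hy, hm y hy])

theorem mu_mul (a b : Nsub D w e p) :
    mu S hU F (a * b) = mu S hU F a + mu S hU F b := by
  apply mu_eq
  intro y hy
  rw [S.herm.add_left, h_mu S hU F a hy, h_mu S hU F b hy]
  exact (phi_mul_N hU F a.2 b.2 hy).symm

theorem mu_one : mu S hU F 1 = 0 := by
  apply mu_eq
  intro y hy
  rw [zero_left S.herm]
  exact (phi_eq F hy Tr.one).symm

theorem mu_w : mu S hU F ⟨w, w_mem⟩ = 0 := by
  apply mu_eq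
  intro y hy
  rw [zero_left S.herm]
  exact (phi_w hU F hy).symm

theorem mu_inv (a : Nsub D w e p) : mu S hU F a⁻¹ = mu S hU F a := by
  have h1 := mu_mul S hU F a a⁻¹
  rw [mul_inv_cancel, mu_one] at h1
  have h2 := eq_neg_of_add_eq_zero_right h1.symm
  rw [h2, neg_eq']

theorem mu_sg {z : G} (hz : InP D w e z) (u : F4) :
    mu S hU F ⟨sg w (p z) u, sg_mem hz u⟩ = u • x z := by
  apply mu_eq
  intro y hy
  rw [S.herm.smul_left, S.gram z y hz hy]
  exact (S.lin z y hz hy u).symm

theorem mu_surjective : Function.Surjective (mu S hU F) := by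
  intro v
  have hv : v ∈ Submodule.span F4 (x '' {z | InP D w e z}) := by rw [S.span]; trivial
  have key : ∀ c : F4, ∃ g, mu S hU F g = c • v := by
    refine Submodule.span_induction (p := fun v _ => ∀ c : F4, ∃ g, mu S hU F g = c • v)
      ?_ ?_ ?_ ?_ hv
    · rintro _ ⟨z, hz, rfl⟩ c
      exact ⟨_, mu_sg S hU F hz c⟩
    · intro c
      exact ⟨1, by rw [mu_one, smul_zero]⟩
    · intro a b _ _ ha hb c
      obtain ⟨g, hg⟩ := ha c
      obtain ⟨k, hk⟩ := hb c
      exact ⟨g * k, by rw [mu_mul, hg, hk, smul_add]⟩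
    · intro a b _ hb c
      obtain ⟨g, hg⟩ := hb (c * a)
      exact ⟨g, by rw [hg, mul_smul]⟩
  obtain ⟨g, hg⟩ := key 1
  exact ⟨g, by rw [hg, one_smul]⟩

/-- `x z` is isotropic -/
theorem h_self {z : G} (hz : InP D w e z) : h (x z) (x z) = 0 := by
  rw [S.gram z z hz hz]
  exact (phi_sg_eq_zero hU F hz hz 1).2 (Or.inr (Commute.refl z))

theorem h_eq_zero {z y : G} (hz : InP D w e z) (hy : InP D w e y) :
    h (x z) (x y) = 0 ↔ Commute z y := by
  rw [S.gram z y hz hy, phi_sg_eq_zero hU F hz hy 1]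
  constructor
  · rintro (h1 | h1)
    · exact absurd h1 one_ne_zero
    · exact h1
  · exact Or.inr

theorem x_ne_zero {z : G} (hz : InP D w e z) : x z ≠ 0 := by
  intro h0
  obtain ⟨c, hc, hcz⟩ := Coherent.exists_not_comm hU F.hw F.he F.hwe hz
  apply hcz
  rw [← h_eq_zero S hU F hc hz, h0, zero_right S.herm]

/-- squares in `N` -/
theorem sq_N (g : Nsub D w e p) :
    (h (mu S hU F g) (mu S hU F g) = 0 ∧ (g : G) * g = 1) ∨
    (h (mu S hU F g) (mu S hU F g) = 1 ∧ (g : G) * g = w) := by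
  have H := S.herm
  have sw := hU.fd.sq w F.hw
  have main : ∀ g : G, g ∈ Nsub D w e p → ∃ hg : g ∈ Nsub D w e p,
      (h (mu S hU F ⟨g, hg⟩) (mu S hU F ⟨g, hg⟩) = 0 ∧ g * g = 1) ∨
      (h (mu S hU F ⟨g, hg⟩) (mu S hU F ⟨g, hg⟩) = 1 ∧ g * g = w) := by
    -- multiplication by a generator
    have step : ∀ (g s : G), (s = w ∨ ∃ z, InP D w e z ∧ ∃ u : F4, s = sg w (p z) u) →
        (∃ hg : g ∈ Nsub D w e p,
          (h (mu S hU F ⟨g, hg⟩) (mu S hU F ⟨g, hg⟩) = 0 ∧ g * g = 1) ∨
          (h (mu S hU F ⟨g, hg⟩) (mu S hU F ⟨g, hg⟩) = 1 ∧ g * g = w)) →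
        (∃ hg : g * s ∈ Nsub D w e p,
          (h (mu S hU F ⟨g * s, hg⟩) (mu S hU F ⟨g * s, hg⟩) = 0 ∧ g * s * (g * s) = 1) ∨
          (h (mu S hU F ⟨g * s, hg⟩) (mu S hU F ⟨g * s, hg⟩) = 1 ∧ g * s * (g * s) = w)) := by
      rintro g s hs ⟨hg, ih⟩
      rcases hs with hs | ⟨z, hz, u, rfl⟩
      · have hs' := hs.symm
        subst hs'
        have hm : g * w ∈ Nsub D w e p := Subgroup.mul_mem _ hg w_mem
        refine ⟨hm, ?_⟩
        have e1 : mu S hU F ⟨g * w, hm⟩ = mu S hU F ⟨g, hg⟩ := by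
          have : (⟨g * w, hm⟩ : Nsub D w e p) = ⟨g, hg⟩ * ⟨w, w_mem⟩ := rfl
          rw [this, mu_mul, mu_w, add_zero]
        have e2 : g * w * (g * w) = g * g := by
          have hc := (comm_w_N hU F hg).eq
          calc g * w * (g * w) = g * (w * g) * w := by simp only [mul_assoc]
            _ = g * g * (w * w) := by rw [hc]; simp only [mul_assoc]
            _ = g * g := by rw [sw, mul_one]
        rw [e1, e2]
        exact ih
      · have hs' : sg w (p z) u ∈ Nsub D w e p := sg_mem hz u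
        have hm : g * sg w (p z) u ∈ Nsub D w e p := Subgroup.mul_mem _ hg hs'
        refine ⟨hm, ?_⟩
        have e1 : mu S hU F ⟨g * sg w (p z) u, hm⟩ = mu S hU F ⟨g, hg⟩ + u • x z := by
          have : (⟨g * sg w (p z) u, hm⟩ : Nsub D w e p) = ⟨g, hg⟩ * ⟨sg w (p z) u, hs'⟩ := rfl
          rw [this, mu_mul, mu_sg S hU F hz u]
        set v := mu S hU F ⟨g, hg⟩ with hv
        set m := phi p z g with hm'
        have e3 : h v (u • x z) = u ^ 2 * m := by
          rw [H.smul_right, hv, h_mu S hU F ⟨g, hg⟩ hz]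
        have e4 : h (v + u • x z) (v + u • x z) = h v v + (u ^ 2 * m + (u ^ 2 * m) ^ 2) := by
          rw [H.add_left, H.add_right card_F4, H.add_right card_F4, e3, H.swap v (u • x z), e3,
            H.smul_left, H.smul_right, h_self S hU F hz, mul_zero, mul_zero, add_zero, add_assoc]
        have hlab := F.lab z hz
        have t := (tr_N hU F hg hz).inv
        rw [← hm'] at t
        have cgw : Commute g⁻¹ w := (comm_w_N hU F hg).symm.inv_left
        have e5 := conj_sg hU F.hw hz.mem (hz.ne F.hwe) hz.cw hlab cgw t u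
        rw [inv_inv] at e5
        have ssq := sg_sq hU F.hw hz.mem (hz.ne F.hwe) hz.cw hlab u
        have e6 : g * sg w (p z) u * (g * sg w (p z) u)
            = g * g * (if u = 0 ∨ m = 0 ∨ m = u then 1 else w) := by
          calc g * sg w (p z) u * (g * sg w (p z) u)
              = g * g * (g⁻¹ * sg w (p z) u * g) * sg w (p z) u := by group
            _ = g * g * ((if u = 0 ∨ m = 0 ∨ m = u then 1 else w) *
                  (sg w (p z) u * sg w (p z) u)) := by
                rw [e5]; simp only [mul_assoc]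
            _ = g * g * (if u = 0 ∨ m = 0 ∨ m = u then 1 else w) := by rw [ssq, mul_one]
        rw [e1, e4, e6]
        have d1 : ∀ u m : F4, (u = 0 ∨ m = 0 ∨ m = u) → u ^ 2 * m + (u ^ 2 * m) ^ 2 = 0 := by
          decide
        have d2 : ∀ u m : F4, ¬ (u = 0 ∨ m = 0 ∨ m = u) → u ^ 2 * m + (u ^ 2 * m) ^ 2 = 1 := by
          decide
        by_cases hc : u = 0 ∨ m = 0 ∨ m = u
        · rw [if_pos hc, d1 u m hc, add_zero, mul_one]
          exact ih
        · rw [if_neg hc, d2 u m hc]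
          rcases ih with ⟨i1, i2⟩ | ⟨i1, i2⟩
          · right
            rw [i1, i2, zero_add, one_mul]
            exact ⟨rfl, rfl⟩
          · left
            rw [i1, i2, sw]
            exact ⟨by decide, rfl⟩
    intro g hg
    have inv_gen : ∀ s : G, (s = w ∨ ∃ z, InP D w e z ∧ ∃ u : F4, s = sg w (p z) u) →
        (s⁻¹ = w ∨ ∃ z, InP D w e z ∧ ∃ u : F4, s⁻¹ = sg w (p z) u) := by
      rintro s (rfl | ⟨z, hz, u, rfl⟩)
      · exact Or.inl (hU.fd.inv_eq F.hw)
      · refine Or.inr ⟨z, hz, u, ?_⟩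
        exact inv_eq_of_mul_eq_one_left
          (sg_sq hU F.hw hz.mem (hz.ne F.hwe) hz.cw (F.lab z hz) u)
    refine Subgroup.closure_induction_right (p := fun g _ => ∃ hg : g ∈ Nsub D w e p,
      (h (mu S hU F ⟨g, hg⟩) (mu S hU F ⟨g, hg⟩) = 0 ∧ g * g = 1) ∨
      (h (mu S hU F ⟨g, hg⟩) (mu S hU F ⟨g, hg⟩) = 1 ∧ g * g = w)) ?_ ?_ ?_ hg
    · refine ⟨Subgroup.one_mem _, Or.inl ⟨?_, mul_one 1⟩⟩
      have : (⟨1, Subgroup.one_mem _⟩ : Nsub D w e p) = 1 := rfl
      rw [this, mu_one, zero_left H]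
    · intro a ha s hs ih
      exact step a s hs ih
    · intro a ha s hs ih
      exact step a s⁻¹ (inv_gen s hs) ih
  obtain ⟨g, hg⟩ := g
  obtain ⟨_, h2⟩ := main g hg
  exact h2

end

end Cfsg.Agent.Fischer468.Mu
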