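import Cfsg.Agent.Fischer468.Final

set_option autoImplicit false

/-!
# `N` is regular on the points not commuting with `w`
-/

namespace Cfsg.Agent.Fischer468.NReg

open Cfsg Cfsg.Agent.SporadicStructure.FischerSpace Cfsg.Agent.Fischer468.Lines
open Cfsg.Agent.Fischer468.FieldMaps Cfsg.Agent.SporadicA.FieldFour
open Cfsg.Agent.Fischer468.Labels Cfsg.Agent.Fischer468.Orient
open Cfsg.Agent.Fischer468.NGroup Cfsg.Agent.Fischer468.Final

variable {G : Type*} [Group G] {D : Set G} {w e : G} {p : G → F4 → G}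
  (hU : UPolar D) (F : Fam D w e p)
include hU F

/-- two commuting points which do not commute with `w` are conjugate in `N` -/
theorem step {e₁ e₂ : G} (h1 : e₁ ∈ D) (h2 : e₂ ∈ D) (hw1 : ¬ Commute w e₁)
    (hw2 : ¬ Commute w e₂) (hc : Commute e₁ e₂) (hne : e₁ ≠ e₂) :
    ∃ g ∈ Nsub D w e p, g * e₁ * g⁻¹ = e₂ := by
  have h := hU.fd
  have hL := isLine_Ln h1 h2 hne hc
  obtain ⟨z, hz, hwz⟩ := hL.one hU F.hw
  have hz1 : z ≠ e₁ := by rintro rfl; exact hw1 hwz
  have hz2 : z ≠ e₂ := by rintro rfl; exact hw2 hwz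
  have hcz1 : Commute z e₁ := hL.comm hz (left_mem h1)
  have hzw : z ≠ w := by rintro rfl; exact hw1 hcz1
  obtain ⟨y, hy, α, hα⟩ := exists_label hU F hz.1 hwz hzw
  have py := F.lab y hy
  have hM := isLine_Ln F.hw hy.mem (hy.ne F.hwe) hy.cw
  have hwM : w ∈ Ln D w y := left_mem F.hw
  have hzM : z ∈ Ln D w y := by rw [← hα]; exact py.mem α
  have hLz : Ln D z e₁ = Ln D e₁ e₂ := hL.eq hU hz (left_mem h1) hz1
  have sw := h.sq w F.hw
  -- points of `M` other than `z` do not commute with `e₁`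
  have hnot : ∀ b ∈ Ln D w y, b ≠ z → ¬ Commute b e₁ := by
    intro b hb hbz hbe
    apply hbz
    exact hM.only hU hzM hwM hb h1 hcz1.symm (fun hh => hw1 hh.symm) hbe.symm
  -- the other points of the line
  have hk : ∀ u : F4, u ≠ 0 → w * p y (α + u) * e₁ * (p y (α + u) * w) ∈ Ln D z e₁ := by
    intro u hu
    apply hM.conj_two_mem hU hzM hwM (py.mem _) hzw.symm _ h1 hcz1
    intro h0
    rw [← hα] at h0
    exact add_ne_left α u hu (py.inj h0)
  have hb : ∀ u : F4, u ≠ 0 → p y (α + u) ≠ z := by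
    intro u hu h0
    rw [← hα] at h0
    exact add_ne_left α u hu (py.inj h0)
  have hke : ∀ u : F4, u ≠ 0 → w * p y (α + u) * e₁ * (p y (α + u) * w) ≠ e₁ := by
    intro u hu
    exact conj_two_ne h F.hw (py.mem _).1 h1 (py.ne _).symm hw1 (hnot _ (py.mem _) (hb u hu))
  have hkz : ∀ u : F4, u ≠ 0 → w * p y (α + u) * e₁ * (p y (α + u) * w) ≠ z := by
    intro u hu h0
    apply hz1
    have sb := h.sq _ (py.mem (α + u)).1
    have cwz := hwz.eq
    have cbz := (hM.comm (py.mem (α + u)) hzM).eq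
    calc z = (p y (α + u) * (w * w) * p y (α + u)) * z := by rw [sw, mul_one, sb, one_mul]
      _ = p y (α + u) * w * (w * (p y (α + u) * z)) := by simp only [mul_assoc]
      _ = p y (α + u) * w * ((w * z) * p y (α + u)) := by rw [cbz]; simp only [mul_assoc]
      _ = p y (α + u) * w * z * (w * p y (α + u)) := by rw [cwz]; simp only [mul_assoc]
      _ = p y (α + u) * w * (w * p y (α + u) * e₁ * (p y (α + u) * w)) * (w * p y (α + u)) := by
          rw [h0]
      _ = p y (α + u) * (w * w) * p y (α + u) * e₁ * (p y (α + u) * (w * w) * p y (α + u)) := by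
          simp only [mul_assoc]
      _ = e₁ := by rw [sw, mul_one, sb, one_mul, mul_one]
  have hkk : ∀ u v : F4, u ≠ 0 → v ≠ 0 → u ≠ v →
      w * p y (α + u) * e₁ * (p y (α + u) * w) ≠ w * p y (α + v) * e₁ * (p y (α + v) * w) := by
    intro u v hu hv huv h0
    apply huv
    have h3 : p y (α + u) = p y (α + v) := by
      apply eq_of_conj_eq h (py.mem _).1 (py.mem _).1 h1 (hnot _ (py.mem _) (hb u hu))
        (hnot _ (py.mem _) (hb v hv))
      calc p y (α + u) * e₁ * p y (α + u)
          = (w * w) * (p y (α + u) * e₁ * p y (α + u)) * (w * w) := by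
            rw [sw, one_mul, mul_one]
        _ = w * (w * p y (α + u) * e₁ * (p y (α + u) * w)) * w := by simp only [mul_assoc]
        _ = w * (w * p y (α + v) * e₁ * (p y (α + v) * w)) * w := by rw [h0]
        _ = (w * w) * (p y (α + v) * e₁ * p y (α + v)) * (w * w) := by simp only [mul_assoc]
        _ = p y (α + v) * e₁ * p y (α + v) := by rw [sw, one_mul, mul_one]
    exact add_left_cancel (py.inj h3)
  have o1 : (1 : F4) ≠ 0 := by decide
  have o2 : F4.w ≠ 0 := by decide
  have o3 : F4.v ≠ 0 := by decide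
  have hfive := mem_five (by rw [hLz]; exact hL.card hU) (left_mem hz.1 : z ∈ Ln D z e₁)
    (right_mem h1) (hk 1 o1) (hk _ o2) (hk _ o3) hz1 (hkz 1 o1).symm (hkz _ o2).symm
    (hkz _ o3).symm (hke 1 o1).symm (hke _ o2).symm (hke _ o3).symm
    (hkk _ _ o1 o2 (by decide)) (hkk _ _ o1 o3 (by decide)) (hkk _ _ o2 o3 (by decide))
    (z := e₂) (by rw [hLz]; exact right_mem h2)
  have fin : ∀ u : F4, e₂ = w * p y (α + u) * e₁ * (p y (α + u) * w) →
      ∃ g ∈ Nsub D w e p, g * e₁ * g⁻¹ = e₂ := by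
    intro u hu
    refine ⟨w * (p y (α + u) * p y α), ?_, ?_⟩
    · apply Subgroup.mul_mem _ w_mem
      obtain ⟨n, hn, hn2⟩ := lab_mul_eq_sg hU F.hw hy.mem (hy.ne F.hwe) hy.cw py (a := α + u)
        (b := α)
      rw [hn2]
      apply Subgroup.mul_mem _ _ (sg_mem hy _)
      rcases hn with rfl | rfl
      · exact Subgroup.one_mem _
      · exact w_mem
    · rw [mul_inv_rev, mul_inv_rev, h.inv_eq F.hw, h.inv_eq (py.mem _).1, h.inv_eq (py.mem _).1,
        hα]
      have sz := h.sq z hz.1
      calc w * (p y (α + u) * z) * e₁ * (z * p y (α + u) * w)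
          = w * p y (α + u) * (z * e₁) * z * p y (α + u) * w := by simp only [mul_assoc]
        _ = w * p y (α + u) * e₁ * (z * z) * p y (α + u) * w := by
            rw [hcz1.eq]; simp only [mul_assoc]
        _ = w * p y (α + u) * e₁ * (p y (α + u) * w) := by
            rw [sz, mul_one]; simp only [mul_assoc]
        _ = e₂ := hu.symm
  rcases hfive with h5 | h5 | h5 | h5 | h5
  · exact absurd h5.symm hz2
  · exact absurd h5.symm hne
  · exact fin _ h5
  · exact fin _ h5
  · exact fin _ h5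

theorem trans_N {d : G} (hd : d ∈ D) (hwd : ¬ Commute w d) :
    ∃ g ∈ Nsub D w e p, g * e * g⁻¹ = d := by
  have h := hU.fd
  by_cases hed : Commute e d
  · by_cases hne : e = d
    · exact ⟨1, Subgroup.one_mem _, by rw [hne]; group⟩
    · exact step hU F F.he hd F.hwe hwd hed hne
  · by_cases hex : ∃ c ∈ D, Commute c e ∧ Commute c d ∧ ¬ Commute w c
    · obtain ⟨c, hc, hce, hcd, hwc⟩ := hex
      have hne1 : e ≠ c := by rintro rfl; exact hed hcd
      have hne2 : c ≠ d := by rintro rfl; exact hed hce.symm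
      obtain ⟨g, hg, hg2⟩ := step hU F F.he hc F.hwe hwc hce.symm hne1
      obtain ⟨k, hk, hk2⟩ := step hU F hc hd hwc hwd hcd hne2
      refine ⟨k * g, Subgroup.mul_mem _ hk hg, ?_⟩
      rw [← hk2, ← hg2]
      group
    · push Not at hex
      rcases hU.hyp e F.he d hd hed w F.hw (fun c hc h1 h2 => (hex c hc h1 h2).symm) with
        h1 | h1 | h1
      · exact absurd (by rw [h1]) F.hwe
      · exact absurd (by rw [h1]) hwd
      · refine ⟨w, w_mem, ?_⟩
        have se := h.sq e F.he
        have e1 : d = e * w * e := by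
          rw [h1]
          calc d = (e * e) * d * (e * e) := by rw [se, one_mul, mul_one]
            _ = e * (e * d * e) * e := by simp only [mul_assoc]
        rw [h.inv_eq F.hw, e1]
        exact h.braid w F.hw e F.he F.hwe

/-- an element of `N` acting trivially on all lines through `w` commutes with them -/
theorem comm_of_phi {g : G} (hg : g ∈ Nsub D w e p) (h0 : ∀ y, InP D w e y → phi p y g = 0)
    {y : G} (hy : InP D w e y) (a : F4) : Commute g (p y a) := by
  have t := tr_N hU F hg hy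
  rw [h0 y hy] at t
  exact t.comm a

theorem comm_N {g : G} (hg : g ∈ Nsub D w e p) (h0 : ∀ y, InP D w e y → phi p y g = 0)
    {n : G} (hn : n ∈ Nsub D w e p) : Commute g n := by
  refine Subgroup.closure_induction (p := fun n _ => Commute g n) ?_ ?_ ?_ ?_ hn
  · rintro x (rfl | ⟨z, hz, u, rfl⟩)
    · exact (comm_w_N hU F hg).symm
    · exact sg_mem_closure hU F.hw hz.mem (hz.ne F.hwe) hz.cw (F.lab z hz) u g
        (comm_w_N hU F hg).symm (comm_of_phi hU F hg h0 hz)
  · exact Commute.one_right g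
  · intro a b _ _ h1 h2
    exact h1.mul_right h2
  · intro a _ h1
    exact h1.inv_right

theorem free_N {g : G} (hg : g ∈ Nsub D w e p) (hge : g * e * g⁻¹ = e) : g = 1 := by
  have h0 : ∀ y, InP D w e y → phi p y g = 0 := by
    intro y hy
    by_contra hne
    have t := tr_N hU F hg hy 0
    rw [zero_add, (F.lab y hy).zero] at t
    apply Good.lab_not_comm_e hU F hy hne
    rw [← t]
    have h1 := (FData.commute_conj_gen g y e).2 hy.ce.symm
    rwa [hge] at h1
  apply hU.center
  intro d hd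
  by_cases hdw : d = w
  · rw [hdw]; exact (comm_w_N hU F hg).symm
  by_cases hwd : Commute w d
  · obtain ⟨y, hy, a, ha⟩ := exists_label hU F hd hwd hdw
    rw [← ha]
    exact comm_of_phi hU F hg h0 hy a
  · obtain ⟨n, hn, hnd⟩ := trans_N hU F hd hwd
    have h1 : Commute g n := comm_N hU F hg h0 hn
    have h2 : Commute g e := by
      show g * e = e * g
      calc g * e = (g * e * g⁻¹) * g := by group
        _ = e * g := by rw [hge]
    rw [← hnd]
    exact (h1.mul_right h2).mul_right h1.inv_right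

theorem free_N' {g : G} (hg : g ∈ Nsub D w e p) {d : G} (hd : d ∈ D) (hwd : ¬ Commute w d)
    (hgd : g * d * g⁻¹ = d) : g = 1 := by
  obtain ⟨n, hn, hnd⟩ := trans_N hU F hd hwd
  have h1 : n⁻¹ * g * n = 1 := by
    apply free_N hU F (Subgroup.mul_mem _ (Subgroup.mul_mem _ (Subgroup.inv_mem _ hn) hg) hn)
    calc n⁻¹ * g * n * e * (n⁻¹ * g * n)⁻¹ = n⁻¹ * (g * (n * e * n⁻¹) * g⁻¹) * n := by group
      _ = n⁻¹ * (n * e * n⁻¹) * n := by rw [hnd, hgd]
      _ = e := by group
  calc g = n * (n⁻¹ * g * n) * n⁻¹ := by group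
    _ = 1 := by rw [h1]; group

theorem ker_N {g : G} (hg : g ∈ Nsub D w e p) (h0 : ∀ y, InP D w e y → phi p y g = 0) :
    g = 1 ∨ g = w := by
  have h := hU.fd
  have heD : g * e * g⁻¹ ∈ D := h.conj g e F.he
  have hsub : ∀ d ∈ D, Commute d w → Commute d e → Commute d (g * e * g⁻¹) := by
    intro d hd h1 h2
    have hdP : InP D w e d := ⟨hd, h1.symm, h2.symm⟩
    have h3 := comm_of_phi hU F hg h0 hdP 0
    rw [(F.lab d hdP).zero] at h3
    exact (h3.symm.mul_right h2).mul_right h3.symm.inv_right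
  rcases hU.hyp w F.hw e F.he F.hwe _ heD hsub with h1 | h1 | h1
  · exfalso
    apply not_comm_conj hU F ⟨g, hg⟩
    show Commute w (g * e * g⁻¹)
    rw [h1]
  · exact Or.inl (free_N hU F hg h1)
  · right
    have sw := h.sq w F.hw
    have iw := h.inv_eq F.hw
    have h2 : w * g = 1 := by
      apply free_N hU F (Subgroup.mul_mem _ w_mem hg)
      rw [mul_inv_rev, iw]
      calc w * g * e * (g⁻¹ * w) = w * (g * e * g⁻¹) * w := by simp only [mul_assoc]
        _ = (w * w) * e * (w * w) := by rw [h1]; simp only [mul_assoc]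
        _ = e := by rw [sw, one_mul, mul_one]
    calc g = (w * w) * g := by rw [sw, one_mul]
      _ = w := by rw [mul_assoc, h2, mul_one]

omit F in
theorem reg (F : Fam D w e p) : Reg D w e p :=
  ⟨fun _ hd hwd => trans_N hU F hd hwd, fun _ hg hge => free_N hU F hg hge,
    fun _ hg _ hd hwd hgd => free_N' hU F hg hd hwd hgd, fun _ hg h0 => ker_N hU F hg h0⟩

omit F in
/-- **A polar space of 3-transpositions with lines of five points is unitary.** -/
theorem exists_equiv_psu [Finite G] :
    ∃ n : ℕ, 4 ≤ n ∧ ∃ e : G ≃* PSU n F4 2, ∀ g : G, g ∈ D ↔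
      ∃ t : SU n F4 2,
        (((t : Matrix.SpecialLinearGroup (Fin n) F4) : Matrix (Fin n) (Fin n) F4) - 1).rank = 1 ∧
        e g = QuotientGroup.mk t :=
  exists_equiv_psu_of_reg hU (fun _ _ _ F => reg hU F)

end Cfsg.Agent.Fischer468.NReg
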