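import Cfsg.Agent.Fischer468.Labels

set_option autoImplicit false

/-!
# Holonomy of the labels and a coherent choice of the labels
-/

namespace Cfsg.Agent.Fischer468.Orient

open Cfsg Cfsg.Agent.SporadicStructure.FischerSpace Cfsg.Agent.Fischer468.Lines
open Cfsg.Agent.Fischer468.FieldMaps Cfsg.Agent.SporadicA.FieldFour
open Cfsg.Agent.Fischer468.Labels

variable {G : Type*} [Group G] {D : Set G}

/-- the points commuting with `w` and with `e` -/
structure InP (D : Set G) (w e y : G) : Prop where
  mem : y ∈ D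
  cw : Commute w y
  ce : Commute e y

/-- a family of labels of the lines through `w` -/
structure Fam (D : Set G) (w e : G) (p : G → F4 → G) : Prop where
  hw : w ∈ D
  he : e ∈ D
  hwe : ¬ Commute w e
  lab : ∀ y, InP D w e y → Lab D w y (p y)

open Classical in
/-- the amount of the translation of the line `(w, y)` induced by `g` -/
noncomputable def phi (p : G → F4 → G) (y g : G) : F4 :=
  if h : ∃ m, Tr g (p y) m then h.choose else 0

theorem InP.ne {w e y : G} (hwe : ¬ Commute w e) (hy : InP D w e y) : w ≠ y := by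
  rintro rfl
  exact hwe hy.ce.symm

section PhiLemmas

variable {w e : G} {p : G → F4 → G} (F : Fam D w e p)
include F

theorem phi_eq {y g : G} (hy : InP D w e y) {m : F4} (h : Tr g (p y) m) : phi p y g = m := by
  have hex : ∃ m, Tr g (p y) m := ⟨m, h⟩
  unfold phi
  rw [dif_pos hex]
  exact Tr.unique (F.lab y hy) hex.choose_spec h

theorem phi_mul {y g h : G} {m m' : F4} (hy : InP D w e y) (hg : Tr g (p y) m)
    (hh : Tr h (p y) m') : phi p y (g * h) = phi p y g + phi p y h := by
  rw [phi_eq F hy (hg.mul hh), phi_eq F hy hg, phi_eq F hy hh]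

end PhiLemmas

section Holonomy

variable {w e : G} {p : G → F4 → G} (hU : UPolar D) (F : Fam D w e p)
include hU F

theorem exists_tr_sg' {z y : G} (hz : InP D w e z) (hy : InP D w e y) (u : F4) :
    ∃ m, Tr (sg w (p z) u) (p y) m ∧ (m = 0 ↔ (u = 0 ∨ Commute z y)) :=
  exists_tr_sg hU F.hw hz.mem (hz.ne F.hwe) hz.cw (F.lab z hz) hy.mem (hy.ne F.hwe) hy.cw
    (F.lab y hy) u

theorem tr_sg {z y : G} (hz : InP D w e z) (hy : InP D w e y) (u : F4) :
    Tr (sg w (p z) u) (p y) (phi p y (sg w (p z) u)) := by
  obtain ⟨m, h1, -⟩ := exists_tr_sg' hU F hz hy u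
  rw [phi_eq F hy h1]
  exact h1

theorem phi_sg_eq_zero {z y : G} (hz : InP D w e z) (hy : InP D w e y) (u : F4) :
    phi p y (sg w (p z) u) = 0 ↔ (u = 0 ∨ Commute z y) := by
  obtain ⟨m, h1, h2⟩ := exists_tr_sg' hU F hz hy u
  rw [phi_eq F hy h1]
  exact h2

theorem addInj {z y : G} (hz : InP D w e z) (hy : InP D w e y) (hzy : ¬ Commute z y) :
    AddInj (fun u => phi p y (sg w (p z) u)) := by
  constructor
  · intro a b
    show phi p y (sg w (p z) (a + b)) = phi p y (sg w (p z) a) + phi p y (sg w (p z) b)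
    rw [sg_add hU F.hw hz.mem (hz.ne F.hwe) hz.cw (F.lab z hz),
      phi_mul F hy (tr_sg hU F hz hy a) (tr_sg hU F hz hy b)]
  · intro a ha
    exact ((phi_sg_eq_zero hU F hz hy a).1 ha).resolve_right hzy

/-- the map from `y` to `z` is the inverse of the map from `z` to `y` -/
theorem phi_inverse {z y : G} (hz : InP D w e z) (hy : InP D w e y) (hzy : ¬ Commute z y)
    (u v : F4) (h : phi p y (sg w (p z) u) = v) : phi p z (sg w (p y) v) = u := by
  by_cases hu : u = 0
  · subst hu
    rw [sg_zero] at h
    have h1 : v = 0 := by rw [← h]; exact phi_eq F hy Tr.one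
    rw [h1, sg_zero]
    exact phi_eq F hz Tr.one
  have hv : v ≠ 0 := by
    intro hv
    rw [hv] at h
    exact hu (((phi_sg_eq_zero hU F hz hy u).1 h).resolve_right hzy)
  have hfd := hU.fd
  have hpz := F.lab z hz
  have hpy := F.lab y hy
  have t1 := tr_sg hU F hz hy u
  rw [h] at t1
  have t2 := tr_sg hU F hy hz v
  set m := phi p z (sg w (p y) v) with hm
  -- evaluate at `0`
  have e1 := t1 0
  have e2 := t2 0
  rw [zero_add, hpy.zero] at e1
  rw [zero_add, hpz.zero] at e2
  rw [sg_of_ne w _ hu, hpz.zero] at e1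
  rw [sg_of_ne w _ hv, hpy.zero] at e2
  have wD := F.hw
  set q := p z u with hq
  set T := p y v with hTdef
  have qD : q ∈ D := (hpz.mem u).1
  have TD : T ∈ D := (hpy.mem v).1
  have sw := hfd.sq w wD
  have sz := hfd.sq z hz.mem
  have sy := hfd.sq y hy.mem
  have sq := hfd.sq q qD
  have iw := hfd.inv_eq wD
  have iz := hfd.inv_eq hz.mem
  have iy := hfd.inv_eq hy.mem
  have iq := hfd.inv_eq qD
  have iT := hfd.inv_eq TD
  have cwz := hz.cw.eq
  have cwy := hy.cw.eq
  have cwq : w * q = q * w :=
    (lab_comm_w hU wD hz.mem (hz.ne F.hwe) hz.cw hpz u).eq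
  have czq : z * q = q * z := by
    have := (lab_comm hU wD hz.mem (hz.ne F.hwe) hz.cw hpz 0 u).eq
    rwa [hpz.zero] at this
  have hqy : ¬ Commute q y := by
    intro hqy
    apply hzy
    exact ((isLine_Ln wD hz.mem (hz.ne F.hwe) hz.cw).all hU (hpz.mem u) (left_mem wD)
      (hpz.ne u) hy.mem hqy.symm hy.cw.symm (right_mem hz.mem)).symm
  have brz := hfd.braid z hz.mem y hy.mem hzy
  have brq := hfd.braid q qD y hy.mem hqy
  have hT : T = z * (q * y * q) * z := by
    have s1 : (w * z * q)⁻¹ = w * z * q := by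
      rw [mul_inv_rev, mul_inv_rev, iw, iz, iq]
      calc q * (z * w) = (q * z) * w := by rw [mul_assoc]
        _ = z * (q * w) := by rw [← czq, mul_assoc]
        _ = (z * w) * q := by rw [← cwq, mul_assoc]
        _ = w * z * q := by rw [← cwz]
    rw [s1] at e1
    rw [← e1]
    calc w * z * q * y * (w * z * q) = w * z * q * (y * w) * z * q := by
          simp only [mul_assoc]
      _ = w * z * (q * w) * y * z * q := by rw [← cwy]; simp only [mul_assoc]
      _ = w * (z * w) * q * y * z * q := by rw [← cwq]; simp only [mul_assoc]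
      _ = (w * w) * z * q * y * (z * q) := by rw [← cwz]; simp only [mul_assoc]
      _ = z * q * y * (z * q) := by rw [sw, one_mul]
      _ = z * q * y * (q * z) := congrArg (fun t => z * q * y * t) czq
      _ = z * (q * y * q) * z := by simp only [mul_assoc]
  have hTzT : T * z * T = q * y * q := by
    rw [hT]
    calc z * (q * y * q) * z * z * (z * (q * y * q) * z)
        = z * (q * y * q) * (z * z) * (z * (q * y * q) * z) := by simp only [mul_assoc]
      _ = z * (q * y * (q * z) * (q * y * q)) * z := by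
          rw [sz, mul_one]; simp only [mul_assoc]
      _ = z * (q * y * (z * q) * (q * y * q)) * z := by rw [← czq]
      _ = (z * q) * (y * z * (q * q) * y) * (q * z) := by simp only [mul_assoc]
      _ = (z * q) * (y * z * y) * (q * z) := by rw [sq, mul_one]
      _ = (q * z) * (z * y * z) * (z * q) := by rw [← brz, czq]
      _ = q * (z * z) * y * (z * z) * q := by simp only [mul_assoc]
      _ = q * y * q := by rw [sz, mul_one, mul_one]
  have iinv : (w * y * T)⁻¹ = T * (y * w) := by
    rw [mul_inv_rev, mul_inv_rev, iT, iy, iw]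
  rw [iinv] at e2
  have e3 : w * y * T * z * (T * (y * w)) = q := by
    calc w * y * T * z * (T * (y * w)) = w * y * (T * z * T) * (y * w) := by
          simp only [mul_assoc]
      _ = w * (y * (q * y * q) * y) * w := by rw [hTzT]; simp only [mul_assoc]
      _ = w * ((y * y) * q * (y * y)) * w := by rw [brq]; simp only [mul_assoc]
      _ = w * (q * w) := by rw [sy, one_mul, mul_one, mul_assoc]
      _ = q := by rw [← cwq, ← mul_assoc, sw, one_mul]
  rw [e3] at e2
  exact (hpz.inj e2).symm

omit hU F in
/-- conjugate of a line -/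
theorem conj_Ln (h : FData D) (g : G) {x y z : G} (hz : z ∈ Ln D x y) :
    g * z * g⁻¹ ∈ Ln D (g * x * g⁻¹) (g * y * g⁻¹) := by
  refine ⟨h.conj g z hz.1, ?_⟩
  intro d hd h1 h2
  have hd' := h.conj g⁻¹ d hd
  rw [inv_inv] at hd'
  have key : ∀ t, Commute d (g * t * g⁻¹) ↔ Commute (g⁻¹ * d * g) t := by
    intro t
    rw [← FData.commute_conj_gen g (g⁻¹ * d * g) t]
    have : g * (g⁻¹ * d * g) * g⁻¹ = d := by group
    rw [this]
  rw [key] at h1 h2 ⊢
  exact hz.2 _ hd' h1 h2

/-- the holonomy of a triangle -/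
theorem triangle {x y z : G} (hx : InP D w e x) (hy : InP D w e y) (hz : InP D w e z)
    (hxy : ¬ Commute x y) :
    (∀ u, phi p z (sg w (p x) u) + phi p z (sg w (p y) (phi p y (sg w (p x) u))) = 0) ∨
    (∀ u, u ≠ 0 →
      phi p z (sg w (p x) u) + phi p z (sg w (p y) (phi p y (sg w (p x) u))) ≠ 0) := by
  have hfd := hU.fd
  have wD := F.hw
  have hpx := F.lab x hx
  have hpy := F.lab y hy
  have hpz := F.lab z hz
  have tD : y * x * y ∈ D := hfd.conj' hy.mem hx.mem
  have iy := hfd.inv_eq hy.mem
  have sy := hfd.sq y hy.mem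
  have sw := hfd.sq w wD
  have cwy := hy.cw.eq
  have hwy : y * w * y = w := by rw [← cwy, mul_assoc, sy, mul_one]
  have cwt : Commute w (y * x * y) := (hy.cw.mul_right hx.cw).mul_right hy.cw
  have cet : Commute e (y * x * y) := (hy.ce.mul_right hx.ce).mul_right hy.ce
  have hT : InP D w e (y * x * y) := ⟨tD, cwt, cet⟩
  have hMline := isLine_Ln wD tD (hT.ne F.hwe) cwt
  -- main computation
  have main : ∀ u, u ≠ 0 → ∃ m, (m = 0 ↔ Commute (y * x * y) z) ∧
      phi p z (sg w (p x) u) + phi p z (sg w (p y) (phi p y (sg w (p x) u))) = m := by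
    intro u hu
    set v := phi p y (sg w (p x) u) with hv
    have hv0 : v ≠ 0 := by
      intro h0
      exact hu (((phi_sg_eq_zero hU F hx hy u).1 h0).resolve_right hxy)
    -- `y s y`
    have hqM : y * p x u * y ∈ Ln D w (y * x * y) := by
      have := conj_Ln hfd y (hpx.mem u)
      rw [iy, hwy] at this
      exact this
    have hqne : y * p x u * y ≠ w := by
      intro h0
      apply hpx.ne u
      calc p x u = (y * y) * p x u * (y * y) := by rw [sy, one_mul, mul_one]
        _ = y * (y * p x u * y) * y := by simp only [mul_assoc]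
        _ = w := by rw [h0, hwy]
    have hqt : y * x * y ≠ y * p x u * y := by
      intro h0
      have h1 : x = p x u := mul_left_cancel (mul_right_cancel h0)
      have h2 : p x 0 = p x u := by rw [hpx.zero]; exact h1
      exact hu (hpx.inj h2).symm
    obtain ⟨m, hm1, hm2⟩ := exists_tr hU hMline (left_mem wD) (right_mem tD) hqM
      (hT.ne F.hwe).symm hqne hqt hz.mem (hz.ne F.hwe) hz.cw hpz
    refine ⟨m, hm2, ?_⟩
    have t1 := tr_sg hU F hx hz u
    have t2 := tr_sg hU F hy hz v
    have e1 := tr_sg hU F hx hy u 0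
    rw [zero_add, hpy.zero, ← hv] at e1
    have ssq := sg_sq hU wD hx.mem (hx.ne F.hwe) hx.cw hpx u
    have sinv : (sg w (p x) u)⁻¹ = sg w (p x) u := inv_eq_of_mul_eq_one_left ssq
    rw [sinv] at e1
    have cws := (sg_comm_w hU wD hx.mem (hx.ne F.hwe) hx.cw hpx u).eq
    have e2 : y * x * y * (y * p x u * y) = sg w (p x) u * sg w (p y) v := by
      have f1 : y * x * y * (y * p x u * y) = w * (y * sg w (p x) u * y) := by
        rw [sg_of_ne w _ hu, hpx.zero]
        calc y * x * y * (y * p x u * y) = y * x * (y * y) * p x u * y := by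
              simp only [mul_assoc]
          _ = (w * w) * y * x * p x u * y := by rw [sy, mul_one, sw, one_mul]
          _ = w * (w * y) * x * p x u * y := by simp only [mul_assoc]
          _ = w * (y * (w * x * p x u) * y) := by rw [cwy]; simp only [mul_assoc]
      have f2 : y * sg w (p x) u * y = sg w (p x) u * (p y v * y) := by
        calc y * sg w (p x) u * y
            = (sg w (p x) u * sg w (p x) u) * (y * sg w (p x) u * y) := by
              rw [ssq, one_mul]
          _ = sg w (p x) u * ((sg w (p x) u * y * sg w (p x) u) * y) := by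
              simp only [mul_assoc]
          _ = sg w (p x) u * (p y v * y) := by rw [e1]
      have f3 : p y v * y = w * sg w (p y) v := by
        have c1 := (lab_comm hU wD hy.mem (hy.ne F.hwe) hy.cw hpy 0 v).eq
        rw [hpy.zero] at c1
        rw [sg_of_ne w _ hv0, hpy.zero, ← c1, ← mul_assoc, ← mul_assoc, sw, one_mul]
      rw [f1, f2, f3, ← mul_assoc, ← mul_assoc, cws, mul_assoc (sg w (p x) u) w w, sw, mul_one]
    rw [e2] at hm1
    have h3 := Tr.unique hpz hm1 (t1.mul t2)
    exact h3.symm
  by_cases htz : Commute (y * x * y) z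
  · left
    intro u
    by_cases hu : u = 0
    · subst hu
      have h1 : phi p z (sg w (p x) 0) = 0 := by rw [sg_zero]; exact phi_eq F hz Tr.one
      have h2 : phi p y (sg w (p x) 0) = 0 := by rw [sg_zero]; exact phi_eq F hy Tr.one
      have h3 : phi p z (sg w (p y) 0) = 0 := by rw [sg_zero]; exact phi_eq F hz Tr.one
      rw [h1, h2, h3, add_zero]
    · obtain ⟨m, h1, h2⟩ := main u hu
      rw [h2]
      exact h1.2 htz
  · right
    intro u hu
    obtain ⟨m, h1, h2⟩ := main u hu
    rw [h2]
    exact fun h => htz (h1.1 h)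

end Holonomy

end Cfsg.Agent.Fischer468.Orient
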